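import Mathlib

/-!
Helper lemmas (helper22): Sylow facts used for minimal non-`p`-closed groups.
-/

namespace Cfsg.Agent.Lib.Helper22

open scoped Pointwise

/-- A `p`-element of a subgroup of order prime to `p` is trivial. -/
theorem eq_one_of_pow_prime_pow_of_mem {G : Type*} [Group G] [Finite G] {p : ℕ} [hp : Fact p.Prime]
    (g : G) (k : ℕ) (hg : g ^ p ^ k = 1) (M : Subgroup G) (hM : ¬ p ∣ Nat.card M)
    (hgM : g ∈ M) : g = 1 := by
  have h1 : orderOf g ∣ p ^ k := orderOf_dvd_of_pow_eq_one hg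
  have h2 : orderOf g ∣ Nat.card M := by
    have h3 := orderOf_dvd_natCard (⟨g, hgM⟩ : M)
    rwa [Subgroup.orderOf_mk] at h3
  have hcop : Nat.Coprime (p ^ k) (Nat.card M) :=
    Nat.Coprime.pow_left k ((Nat.Prime.coprime_iff_not_dvd hp.out).mpr hM)
  have h4 : orderOf g = 1 := Nat.Coprime.eq_one_of_dvd (Nat.Coprime.coprime_dvd_left h1 hcop) h2
  exact orderOf_eq_one_iff.mp h4

/-- A `p`-subgroup meets a subgroup of order prime to `p` trivially. -/
theorem inf_eq_bot_of_isPGroup_of_not_dvd {G : Type*} [Group G] [Finite G] {p : ℕ}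
    [hp : Fact p.Prime] {P : Subgroup G} (hP : IsPGroup p P) {M : Subgroup G}
    (hM : ¬ p ∣ Nat.card M) : P ⊓ M = ⊥ := by
  rw [eq_bot_iff]
  intro g hg
  obtain ⟨k, hk⟩ := hP ⟨g, hg.1⟩
  have hk' : g ^ p ^ k = 1 := by
    have h1 := congrArg Subtype.val hk
    rwa [Subgroup.coe_pow] at h1
  rw [Subgroup.mem_bot]
  exact eq_one_of_pow_prime_pow_of_mem g k hk' M hM hg.2

/-- A Sylow subgroup that is normal in a normal subgroup containing it is normal. -/
theorem sylow_normal_of_le_normal {G : Type*} [Group G] [Finite G] {p : ℕ} [Fact p.Prime]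
    (P : Sylow p G) (K : Subgroup G) [hK : K.Normal] (hPK : (P : Subgroup G) ≤ K)
    (hn : (P.subtype hPK : Subgroup K).Normal) : (P : Subgroup G).Normal := by
  haveI hchar := Sylow.characteristic_of_normal (P.subtype hPK) hn
  have h1 : ((P.subtype hPK : Subgroup K).map K.subtype).Normal := inferInstance
  have h2 : (P.subtype hPK : Subgroup K).map K.subtype = (P : Subgroup G) := by
    rw [Sylow.coe_subtype, Subgroup.map_subgroupOf_eq_of_le hPK]
  rw [h2] at h1
  exact h1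

/-- If the Sylow subgroups of `G ⧸ N` are normal, then `P ⊔ N` is normal for a Sylow `P`. -/
theorem sup_normal_of_quotient_sylow_normal {G : Type*} [Group G] [Finite G] {p : ℕ}
    [Fact p.Prime] (P : Sylow p G) (N : Subgroup G) [N.Normal]
    (hq : ∀ Q : Sylow p (G ⧸ N), (Q : Subgroup (G ⧸ N)).Normal) :
    ((P : Subgroup G) ⊔ N).Normal := by
  have h1 := hq (P.mapSurjective (QuotientGroup.mk'_surjective N))
  rw [Sylow.coe_mapSurjective] at h1
  have h2 : (((P : Subgroup G).map (QuotientGroup.mk' N)).comap (QuotientGroup.mk' N)).Normal :=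
    h1.comap _
  rw [QuotientGroup.comap_map_mk', sup_comm] at h2
  exact h2

/-- A `p`-group acting by conjugation on a normal subgroup of order prime to `p` fixes one
of its Sylow `r`-subgroups. -/
theorem exists_invariant_sylow {G : Type*} [Group G] [Finite G] {p : ℕ} [Fact p.Prime]
    (P : Subgroup G) (hP : IsPGroup p P) (N : Subgroup G) [N.Normal]
    (hpN : ¬ p ∣ Nat.card N) (r : ℕ) [Fact r.Prime] :
    ∃ R : Sylow r N, ∀ g ∈ P, ∀ x ∈ (R : Subgroup N).map N.subtype,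
      g * x * g⁻¹ ∈ (R : Subgroup N).map N.subtype := by
  classical
  letI : MulAction P (Sylow r N) :=
    MulAction.compHom (Sylow r N) ((MulAut.conjNormal (H := N)).comp P.subtype)
  have hcard : ¬ p ∣ Nat.card (Sylow r N) := by
    intro h
    obtain ⟨R₀⟩ : Nonempty (Sylow r N) := inferInstance
    exact hpN ((h.trans R₀.card_dvd_index).trans (Subgroup.index_dvd_card _))
  obtain ⟨R, hR⟩ := hP.nonempty_fixed_point_of_prime_not_dvd_card (Sylow r N) hcard
  refine ⟨R, ?_⟩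
  rintro g hg x ⟨y, hy, rfl⟩
  have h1 : (⟨g, hg⟩ : P) • R = R := hR ⟨g, hg⟩
  have h2 : (MulAut.conjNormal g : MulAut N) • R = R := h1
  have h3 : (MulAut.conjNormal g : MulAut N) • y ∈
      ((MulAut.conjNormal g : MulAut N) • (R : Subgroup N)) :=
    Subgroup.smul_mem_pointwise_smul y _ _ hy
  rw [← Sylow.pointwise_smul_def, h2] at h3
  exact ⟨(MulAut.conjNormal g : MulAut N) y, h3, MulAut.conjNormal_apply g y⟩

/-- If `⟨x⟩ ⊔ M` has a normal Sylow `p`-subgroup, `x` is a `p`-element normalising `M` and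
`M` has order prime to `p`, then `x` centralises `M`. -/
theorem commute_of_sylow_normal_sup {G : Type*} [Group G] [Finite G] {p : ℕ} [Fact p.Prime]
    (x : G) (hx : IsPGroup p (Subgroup.zpowers x)) (M : Subgroup G) (hM : ¬ p ∣ Nat.card M)
    (hinv : ∀ m ∈ M, x * m * x⁻¹ ∈ M)
    (hcl : ∀ S : Sylow p ↥(Subgroup.zpowers x ⊔ M),
      (S : Subgroup ↥(Subgroup.zpowers x ⊔ M)).Normal) :
    ∀ m ∈ M, x * m = m * x := by
  intro m hm
  have hxK : x ∈ Subgroup.zpowers x ⊔ M :=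
    (le_sup_left : Subgroup.zpowers x ≤ Subgroup.zpowers x ⊔ M) (Subgroup.mem_zpowers x)
  have hmK : m ∈ Subgroup.zpowers x ⊔ M :=
    (le_sup_right : M ≤ Subgroup.zpowers x ⊔ M) hm
  have hXp : IsPGroup p ((Subgroup.zpowers x).subgroupOf (Subgroup.zpowers x ⊔ M)) :=
    hx.comap_subtype
  obtain ⟨S, hS⟩ := hXp.exists_le_sylow
  have hSn := hcl S
  have hxS : (⟨x, hxK⟩ : ↥(Subgroup.zpowers x ⊔ M)) ∈ (S : Subgroup _) :=
    hS (Subgroup.mem_subgroupOf.mpr (Subgroup.mem_zpowers x))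
  have hc : (⟨x, hxK⟩ : ↥(Subgroup.zpowers x ⊔ M)) * (⟨m, hmK⟩ * ⟨x, hxK⟩⁻¹ * ⟨m, hmK⟩⁻¹)
      ∈ (S : Subgroup _) :=
    Subgroup.mul_mem _ hxS (hSn.conj_mem _ (Subgroup.inv_mem _ hxS) _)
  obtain ⟨k, hk⟩ := S.isPGroup' ⟨_, hc⟩
  have hk' : (x * (m * x⁻¹ * m⁻¹)) ^ p ^ k = 1 := by
    have h1 := congrArg (fun z : (S : Subgroup ↥(Subgroup.zpowers x ⊔ M)) =>
      ((z : ↥(Subgroup.zpowers x ⊔ M)) : G)) hk
    exact h1
  have hcM : x * (m * x⁻¹ * m⁻¹) ∈ M := by
    have h1 : x * (m * x⁻¹ * m⁻¹) = (x * m * x⁻¹) * m⁻¹ := by group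
    rw [h1]
    exact M.mul_mem (hinv m hm) (M.inv_mem hm)
  have h1 := eq_one_of_pow_prime_pow_of_mem _ k hk' M hM hcM
  calc x * m = x * (m * x⁻¹ * m⁻¹) * (m * x) := by group
    _ = m * x := by rw [h1, one_mul]

/-- Orders multiply for a complement of a normal subgroup. -/
theorem card_mul_card_of_sup_eq_top {G : Type*} [Group G] (H N : Subgroup G)
    [N.Normal] (hdis : H ⊓ N = ⊥) (htop : H ⊔ N = ⊤) : Nat.card H * Nat.card N = Nat.card G := by
  have hmul : ((H : Subgroup G) : Set G) * (N : Set G) = Set.univ := by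
    rw [← Subgroup.mul_normal, htop]
    rfl
  exact (Subgroup.isComplement'_of_disjoint_and_mul_eq_univ (disjoint_iff.mpr hdis)
    hmul).card_mul_card

end Cfsg.Agent.Lib.Helper22
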