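import Mathlib
import Cfsg.Agent.Lib.Helper22.CM2

set_option autoImplicit false

namespace Cfsg.Agent.Lib.Helper22.CM

open Subgroup

/-- An abelian self-normalizing TI subgroup has a normal complement (transfer). -/
theorem frob_abelian {Q : Type*} [Group Q] [Finite Q] (H : Subgroup Q)
    (hab : ∀ x ∈ H, ∀ y ∈ H, x * y = y * x)
    (hTI : ∀ g : Q, g ∉ H → ∀ x ∈ H, g * x * g⁻¹ ∈ H → x = 1)
    (hH : H ≠ ⊤) :
    ∃ K : Subgroup Q, K.Normal ∧ K ⊓ H = ⊥ ∧ K ≠ ⊥ ∧ (Nat.card H).Coprime H.index ∧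
      ∀ g : Q, g ∉ K → ∃ c : Q, c⁻¹ * g * c ∈ H := by
  classical
  letI : CommGroup H := { (inferInstance : Group H) with
    mul_comm := fun a b => Subtype.ext (hab a.1 a.2 b.1 b.2) }
  have hcop : (Nat.card H).Coprime H.index := by
    apply Nat.coprime_of_dvd
    intro r hr hrH hrn
    haveI := Fact.mk hr
    obtain ⟨x, hx⟩ := exists_prime_orderOf_dvd_card' r hrH
    have hxQ : orderOf (x : Q) = r := by
      rw [Subgroup.orderOf_coe]
      exact hx
    have hpg : IsPGroup r (Subgroup.zpowers (x : Q)) :=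
      IsPGroup.of_card (n := 1) (by rw [Nat.card_zpowers, hxQ, pow_one])
    obtain ⟨S, hS⟩ := hpg.exists_le_sylow
    have hxS : (x : Q) ∈ (S : Subgroup Q) := hS (Subgroup.mem_zpowers _)
    have hx1 : (x : Q) ≠ 1 := by
      intro h
      rw [h, orderOf_one] at hxQ
      exact hr.one_lt.ne hxQ
    haveI : Nontrivial (S : Subgroup Q) :=
      ⟨⟨⟨x, hxS⟩, 1, fun h => hx1 (congrArg Subtype.val h)⟩⟩
    haveI := S.isPGroup'.center_nontrivial
    obtain ⟨z, hz⟩ := exists_ne (1 : Subgroup.center (S : Subgroup Q))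
    have hz1 : (z.1.1 : Q) ≠ 1 := by
      intro h
      apply hz
      apply Subtype.ext
      apply Subtype.ext
      exact h
    have hzc : ∀ s : (S : Subgroup Q), (s : Q) * z.1.1 = z.1.1 * s := by
      intro s
      have := Subgroup.mem_center_iff.mp z.2 s
      exact congrArg Subtype.val this
    have hzH : (z.1.1 : Q) ∈ H := by
      by_contra hcon
      apply hx1
      apply hTI _ hcon (x : Q) x.2
      have := hzc ⟨x, hxS⟩
      have e : (z.1.1 : Q) * x * (z.1.1 : Q)⁻¹ = x := by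
        rw [← this, mul_inv_cancel_right]
      rw [e]
      exact x.2
    have hSH : (S : Subgroup Q) ≤ H := by
      intro y hy
      by_contra hcon
      apply hz1
      apply hTI _ hcon _ hzH
      have := hzc ⟨y, hy⟩
      have e : y * (z.1.1 : Q) * y⁻¹ = z.1.1 := by
        rw [this, mul_inv_cancel_right]
      rw [e]
      exact hzH
    have h1 := S.not_dvd_index
    exact h1 (hrn.trans (Subgroup.index_dvd_of_le hSH))
  have hVH : ∀ h : H, MonoidHom.transfer (MonoidHom.id H) (h : Q) = h ^ H.index := by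
    intro h
    have key : ∀ (k : ℕ) (g₀ : Q), g₀⁻¹ * (h : Q) ^ k * g₀ ∈ H →
        g₀⁻¹ * (h : Q) ^ k * g₀ = (h : Q) ^ k := by
      intro k g₀ hk
      by_cases hg : g₀ ∈ H
      · have := hab g₀ hg ((h : Q) ^ k) (H.pow_mem h.2 k)
        rw [mul_assoc, ← this, inv_mul_cancel_left]
      · have hg' : g₀⁻¹ ∉ H := fun h' => hg (by simpa using H.inv_mem h')
        have h1 := hTI g₀⁻¹ hg' ((h : Q) ^ k) (H.pow_mem h.2 k) (by rwa [inv_inv])
        rw [h1]
        group
    have := MonoidHom.transfer_eq_pow (MonoidHom.id H) (h : Q) key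
    rw [this]
    apply Subtype.ext
    simp
  refine ⟨(MonoidHom.transfer (MonoidHom.id H)).ker, MonoidHom.normal_ker _, ?_, ?_, hcop, ?_⟩
  · rw [eq_bot_iff]
    rintro x ⟨hxK, hxH⟩
    rw [Subgroup.mem_bot]
    have h1 : MonoidHom.transfer (MonoidHom.id H) x = 1 := MonoidHom.mem_ker.mp hxK
    have h2 : (⟨x, hxH⟩ : H) ^ H.index = 1 := by
      rw [← hVH ⟨x, hxH⟩]
      exact h1
    have h3 : (⟨x, hxH⟩ : H) ^ Nat.card H = 1 := pow_card_eq_one'
    have h4 : orderOf (⟨x, hxH⟩ : H) ∣ Nat.gcd (Nat.card H) H.index :=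
      Nat.dvd_gcd (orderOf_dvd_of_pow_eq_one h3) (orderOf_dvd_of_pow_eq_one h2)
    rw [hcop.gcd_eq_one, Nat.dvd_one, orderOf_eq_one_iff] at h4
    exact congrArg Subtype.val h4
  · intro hK
    apply hH
    have hinj : Function.Injective (MonoidHom.transfer (MonoidHom.id H)) :=
      (MonoidHom.ker_eq_bot_iff _).mp hK
    exact Subgroup.eq_top_of_le_card H (Nat.card_le_card_of_injective _ hinj)
  · intro g hg
    have hVg : MonoidHom.transfer (MonoidHom.id H) g ≠ 1 := fun h => hg (MonoidHom.mem_ker.mpr h)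
    haveI : Fintype (Quotient (MulAction.orbitRel (Subgroup.zpowers g) (Q ⧸ H))) :=
      Fintype.ofFinite _
    rw [MonoidHom.transfer_eq_prod_quotient_orbitRel_zpowers_quot (MonoidHom.id H) g] at hVg
    obtain ⟨q, _, hq⟩ := Finset.exists_ne_one_of_prod_ne_one hVg
    have hw : q.out.out⁻¹ * g ^ Function.minimalPeriod (g • ·) q.out * q.out.out ∈ H :=
      QuotientGroup.out_conj_pow_minimalPeriod_mem H g q.out
    have hw1 : q.out.out⁻¹ * g ^ Function.minimalPeriod (g • ·) q.out * q.out.out ≠ 1 := by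
      intro h
      apply hq
      rw [MonoidHom.id_apply]
      exact Subtype.ext h
    refine ⟨q.out.out, ?_⟩
    by_contra hcon
    have e : (q.out.out⁻¹ * g * q.out.out) *
        (q.out.out⁻¹ * g ^ Function.minimalPeriod (g • ·) q.out * q.out.out) *
        (q.out.out⁻¹ * g * q.out.out)⁻¹ =
        q.out.out⁻¹ * g ^ Function.minimalPeriod (g • ·) q.out * q.out.out := by
      have h1 : g * g ^ Function.minimalPeriod (g • ·) q.out * g⁻¹ =
          g ^ Function.minimalPeriod (g • ·) q.out := by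
        rw [← pow_succ', pow_succ, mul_inv_cancel_right]
      calc _ = q.out.out⁻¹ * (g * g ^ Function.minimalPeriod (g • ·) q.out * g⁻¹) * q.out.out := by
            group
        _ = _ := by rw [h1]
    exact hw1 (hTI _ hcon _ hw (by rw [e]; exact hw))

end Cfsg.Agent.Lib.Helper22.CM
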