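import Mathlib

/-!
Helper lemma (helper22): a finite group is not the union of the conjugates of a proper subgroup.
-/

namespace Cfsg.Agent.Lib.Helper22

/-- A finite group is not the union of the conjugates of a proper subgroup. -/
theorem exists_not_mem_conj {G : Type*} [Group G] [Finite G] (H : Subgroup G) (hH : H ≠ ⊤) :
    ∃ g : G, ∀ x : G, x * g * x⁻¹ ∉ H := by
  classical
  by_contra hcon
  push Not at hcon
  haveI : Fintype G := Fintype.ofFinite G
  haveI : Fintype (G ⧸ H) := Fintype.ofFinite _
  haveI : ∀ g : G, Fintype (MulAction.fixedBy (G ⧸ H) g) := fun g => Fintype.ofFinite _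
  haveI : Fintype (MulAction.orbitRel.Quotient G (G ⧸ H)) := Fintype.ofFinite _
  have hB := MulAction.sum_card_fixedBy_eq_card_orbits_mul_card_group G (G ⧸ H)
  have horb : Fintype.card (MulAction.orbitRel.Quotient G (G ⧸ H)) = 1 := by
    rw [Fintype.card_eq_one_iff]
    refine ⟨Quotient.mk'' (QuotientGroup.mk 1), ?_⟩
    intro q
    induction q using Quotient.inductionOn' with
    | h a =>
      apply Quotient.sound'
      exact MulAction.exists_smul_eq G _ _
  rw [horb, one_mul] at hB
  have h1 : ∀ g : G, 1 ≤ Fintype.card (MulAction.fixedBy (G ⧸ H) g) := by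
    intro g
    obtain ⟨x, hx⟩ := hcon g
    refine Fintype.card_pos_iff.mpr ⟨⟨QuotientGroup.mk x⁻¹, ?_⟩⟩
    show g • (QuotientGroup.mk x⁻¹ : G ⧸ H) = QuotientGroup.mk x⁻¹
    rw [MulAction.Quotient.smul_mk, QuotientGroup.eq]
    have : (g • x⁻¹)⁻¹ * x⁻¹ = (x * g * x⁻¹)⁻¹ := by
      rw [smul_eq_mul]
      group
    rw [this]
    exact H.inv_mem hx
  have h2 : 2 ≤ Fintype.card (MulAction.fixedBy (G ⧸ H) (1 : G)) := by
    have : Fintype.card (MulAction.fixedBy (G ⧸ H) (1 : G)) = Fintype.card (G ⧸ H) := by
      apply Fintype.card_congr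
      exact (Equiv.subtypeUnivEquiv (fun q => one_smul G q))
    rw [this, ← Nat.card_eq_fintype_card, ← Subgroup.index]
    have hne1 : H.index ≠ 1 := fun h => hH (Subgroup.index_eq_one.mp h)
    have hne0 : H.index ≠ 0 := Subgroup.index_ne_zero_of_finite
    omega
  have h3 : Fintype.card G + 1 ≤ ∑ g : G, Fintype.card (MulAction.fixedBy (G ⧸ H) g) := by
    calc Fintype.card G + 1 = ∑ g : G, (1 + if g = 1 then 1 else 0) := by
          rw [Finset.sum_add_distrib, Finset.sum_const, Finset.card_univ, smul_eq_mul, mul_one]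
          simp
      _ ≤ _ := by
          apply Finset.sum_le_sum
          intro g _
          split_ifs with hg
          · subst hg
            exact h2
          · simpa using h1 g
  omega

end Cfsg.Agent.Lib.Helper22
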