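import Mathlib

set_option autoImplicit false

namespace Cfsg.Agent.Lib.Helper22.Cov

universe u

/-- In a minimal cover, a proper subgroup contains at most one member of the cover. -/
theorem minCover_unique_in {G : Type*} [Group G] (𝓐 : Finset (Subgroup G))
    (hprop : ∀ A ∈ 𝓐, A ≠ ⊤) (hcov : ∀ g : G, ∃ A ∈ 𝓐, g ∈ A)
    (hmin : ∀ 𝓑 : Finset (Subgroup G), (∀ A ∈ 𝓑, A ≠ ⊤) ∧ (∀ g : G, ∃ A ∈ 𝓑, g ∈ A) →
      𝓐.card ≤ 𝓑.card)
    (H : Subgroup G) (hH : H ≠ ⊤) (A₁ A₂ : Subgroup G) (h1 : A₁ ∈ 𝓐) (h2 : A₂ ∈ 𝓐)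
    (hA₁ : A₁ ≤ H) (hA₂ : A₂ ≤ H) : A₁ = A₂ := by
  classical
  by_contra hne
  have hB := hmin (insert H ((𝓐.erase A₁).erase A₂)) ⟨?_, ?_⟩
  · have c1 : (𝓐.erase A₁).card = 𝓐.card - 1 := Finset.card_erase_of_mem h1
    have c2 : ((𝓐.erase A₁).erase A₂).card = (𝓐.erase A₁).card - 1 :=
      Finset.card_erase_of_mem (Finset.mem_erase.mpr ⟨fun h => hne h.symm, h2⟩)
    have c3 : (insert H ((𝓐.erase A₁).erase A₂)).card ≤ ((𝓐.erase A₁).erase A₂).card + 1 :=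
      Finset.card_insert_le _ _
    have c4 : 1 < 𝓐.card := Finset.one_lt_card.mpr ⟨A₁, h1, A₂, h2, hne⟩
    omega
  · intro A hA
    rcases Finset.mem_insert.mp hA with rfl | hA'
    · exact hH
    · exact hprop A (Finset.mem_of_mem_erase (Finset.mem_of_mem_erase hA'))
  · intro g
    obtain ⟨A, hA, hg⟩ := hcov g
    by_cases e1 : A = A₁
    · exact ⟨H, Finset.mem_insert_self _ _, hA₁ (e1 ▸ hg)⟩
    by_cases e2 : A = A₂
    · exact ⟨H, Finset.mem_insert_self _ _, hA₂ (e2 ▸ hg)⟩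
    exact ⟨A, Finset.mem_insert_of_mem (Finset.mem_erase.mpr ⟨e2, Finset.mem_erase.mpr ⟨e1, hA⟩⟩),
      hg⟩

/-- A normal subgroup of prime order of a nilpotent group is central. -/
theorem central_of_normal_prime_card {A : Type*} [Group A] [Group.IsNilpotent A] (p : ℕ)
    (hp : p.Prime) (Z : Subgroup A) [Z.Normal] (hZ : Nat.card Z = p) :
    ∀ z ∈ Z, ∀ a : A, a * z = z * a := by
  haveI : Finite Z := Nat.finite_of_card_ne_zero (by rw [hZ]; exact hp.ne_zero)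
  have hle : ⁅Z, (⊤ : Subgroup A)⁆ ≤ Z := Subgroup.commutator_le_left Z ⊤
  have hbot : ⁅Z, (⊤ : Subgroup A)⁆ = ⊥ := by
    by_contra hne
    have h1 : Nat.card ↥⁅Z, (⊤ : Subgroup A)⁆ ∣ p := hZ ▸ Subgroup.card_dvd_of_le hle
    have h2 : ⁅Z, (⊤ : Subgroup A)⁆ = Z := by
      rcases (Nat.dvd_prime hp).mp h1 with h | h
      · exact absurd (Subgroup.card_eq_one.mp h) hne
      · exact Subgroup.eq_of_le_of_card_ge hle (by rw [h, hZ])
    obtain ⟨k, hk⟩ := Subgroup.nilpotent_iff_lowerCentralSeries.mp (inferInstance : Group.IsNilpotent A)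
    have h3 : ∀ j : ℕ, Z ≤ (⊤ : Subgroup A).lowerCentralSeries j := by
      intro j
      induction j with
      | zero => exact le_top
      | succ j ih =>
        rw [Subgroup.lowerCentralSeries_succ]
        calc Z = ⁅Z, (⊤ : Subgroup A)⁆ := h2.symm
          _ ≤ ⁅(⊤ : Subgroup A).lowerCentralSeries j, ⊤⁆ := Subgroup.commutator_mono ih le_rfl
    have h4 := h3 k
    rw [hk] at h4
    have h5 : Z = ⊥ := le_bot_iff.mp h4
    rw [h5, Subgroup.card_bot] at hZ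
    exact hp.one_lt.ne hZ
  intro z hz a
  have h6 := (Subgroup.commutator_eq_bot_iff_le_centralizer.mp hbot) hz
  rw [Subgroup.mem_centralizer_iff] at h6
  exact h6 a (Subgroup.mem_top a)

/-- A nilpotent subgroup containing an element of order `p`, where `p ^ 2` does not divide the
group order, centralizes that element. -/
theorem nilpotent_le_centralizer {G : Type*} [Group G] [Finite G] (p : ℕ) (hp : p.Prime)
    (hp2 : ¬ p ^ 2 ∣ Nat.card G) (x : G) (hx : orderOf x = p) (A : Subgroup G)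
    [hA : Group.IsNilpotent ↥A] (hxA : x ∈ A) : ∀ a ∈ A, a * x = x * a := by
  haveI := Fact.mk hp
  have hox : orderOf (⟨x, hxA⟩ : A) = p := by
    rw [← hx]
    exact (Subgroup.orderOf_coe (⟨x, hxA⟩ : A)).symm
  have hzp : IsPGroup p (Subgroup.zpowers (⟨x, hxA⟩ : A)) :=
    IsPGroup.of_card (n := 1) (by rw [Nat.card_zpowers, hox, pow_one])
  obtain ⟨S, hS⟩ := hzp.exists_le_sylow
  obtain ⟨k, hk⟩ := (IsPGroup.iff_card).mp S.isPGroup'
  have h1 : p ^ k ∣ Nat.card G :=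
    hk ▸ (Subgroup.card_subgroup_dvd_card (S : Subgroup A)).trans (Subgroup.card_subgroup_dvd_card A)
  have hk1 : k ≤ 1 := by
    by_contra hcon
    exact hp2 ((pow_dvd_pow p (by omega : 2 ≤ k)).trans h1)
  have h2 : p ∣ p ^ k := by
    have := Subgroup.card_dvd_of_le hS
    rwa [Nat.card_zpowers, hox, hk] at this
  have hk0 : k = 1 := by
    rcases Nat.eq_zero_or_pos k with h | h
    · rw [h, pow_zero] at h2
      exact absurd (Nat.le_of_dvd Nat.one_pos h2) (by have := hp.two_le; omega)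
    · omega
  have hScard : Nat.card (S : Subgroup A) = p := by rw [hk, hk0, pow_one]
  haveI : (S : Subgroup A).Normal := inferInstance
  have h3 := central_of_normal_prime_card p hp (S : Subgroup A) hScard ⟨x, hxA⟩
    (hS (Subgroup.mem_zpowers _))
  intro a ha
  exact congrArg Subtype.val (h3 ⟨a, ha⟩)

/-- Abstract criterion: no nilpotent minimal cover. -/
theorem no_nilpotent_min_cover {G : Type*} [Group G] [Finite G] (p : ℕ) (hp : p.Prime)
    (hp2 : ¬ p ^ 2 ∣ Nat.card G) (x x' : G) (hx : orderOf x = p) (hx' : orderOf x' = p)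
    (hne : x' * x ≠ x * x')
    (H : Subgroup G) (hH : H ≠ ⊤) (hCx : ∀ g : G, g * x = x * g → g ∈ H)
    (hCx' : ∀ g : G, g * x' = x' * g → g ∈ H) :
    ¬ ∃ 𝓐 : Finset (Subgroup G), ((∀ A ∈ 𝓐, A ≠ ⊤) ∧ (∀ g : G, ∃ A ∈ 𝓐, g ∈ A)) ∧
      (∀ 𝓑 : Finset (Subgroup G), (∀ A ∈ 𝓑, A ≠ ⊤) ∧ (∀ g : G, ∃ A ∈ 𝓑, g ∈ A) →
        𝓐.card ≤ 𝓑.card) ∧ (∀ A ∈ 𝓐, Group.IsNilpotent ↥A) := by
  rintro ⟨𝓐, ⟨hprop, hcov⟩, hmin, hnil⟩
  obtain ⟨A₁, hA₁, hxA₁⟩ := hcov x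
  obtain ⟨A₂, hA₂, hxA₂⟩ := hcov x'
  haveI := hnil A₁ hA₁
  haveI := hnil A₂ hA₂
  have h1 : A₁ ≤ H := fun a ha => hCx a (nilpotent_le_centralizer p hp hp2 x hx A₁ hxA₁ a ha)
  have h2 : A₂ ≤ H := fun a ha => hCx' a (nilpotent_le_centralizer p hp hp2 x' hx' A₂ hxA₂ a ha)
  have h3 : A₁ = A₂ := minCover_unique_in 𝓐 hprop hcov hmin H hH A₁ A₂ hA₁ hA₂ h1 h2
  rw [← h3] at hxA₂
  exact hne (nilpotent_le_centralizer p hp hp2 x hx A₁ hxA₁ x' hxA₂)

end Cfsg.Agent.Lib.Helper22.Cov
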