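import Mathlib
import Cfsg.Agent.Lib.Helper22.Cover1

set_option autoImplicit false

namespace Cfsg.Agent.Lib.Helper22.Cov

open Equiv

/-- The cycle `(0 1 … p-1)` on `Fin n`. -/
def cyc (n p : ℕ) (hp : 0 < p) (hpn : p ≤ n) : Perm (Fin n) :=
  Fin.cycleRange ⟨p - 1, by omega⟩

theorem cyc_val_lt {n p : ℕ} (hp : 0 < p) (hpn : p ≤ n) (i : Fin n) (hi : i.val < p - 1) :
    (cyc n p hp hpn i).val = i.val + 1 :=
  Fin.coe_cycleRange_of_lt (by rw [Fin.lt_def]; exact hi)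

theorem cyc_val_eq {n p : ℕ} (hp : 0 < p) (hpn : p ≤ n) (i : Fin n) (hi : i.val = p - 1) :
    (cyc n p hp hpn i).val = 0 := by
  have h := Fin.coe_cycleRange_of_le (i := i) (j := ⟨p - 1, by omega⟩) (by rw [Fin.le_def]; exact hi.le)
  rw [if_pos (Fin.ext hi)] at h
  exact h

theorem cyc_gt {n p : ℕ} (hp : 0 < p) (hpn : p ≤ n) (i : Fin n) (hi : p ≤ i.val) :
    cyc n p hp hpn i = i :=
  Fin.cycleRange_of_gt (by rw [Fin.lt_def]; show p - 1 < i.val; omega)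

theorem cyc_fix_iff {n p : ℕ} (hp2 : 2 ≤ p) (hpn : p ≤ n) (i : Fin n) :
    cyc n p (by omega) hpn i = i ↔ p ≤ i.val := by
  constructor
  · intro h
    by_contra hcon
    have h1 := congrArg Fin.val h
    rcases Nat.lt_or_ge i.val (p - 1) with h2 | h2
    · rw [cyc_val_lt _ hpn i h2] at h1
      omega
    · rw [cyc_val_eq _ hpn i (by omega)] at h1
      omega
  · exact cyc_gt _ hpn i

theorem orderOf_cyc {n p : ℕ} (hp2 : 2 ≤ p) (hpn : p ≤ n) :
    orderOf (cyc n p (by omega) hpn) = p := by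
  haveI : NeZero n := ⟨by omega⟩
  have h0 : (⟨p - 1, by omega⟩ : Fin n) ≠ 0 := by
    intro h
    have h1 := congrArg Fin.val h
    simp at h1
    omega
  rw [← Equiv.Perm.lcm_cycleType, cyc, Fin.cycleType_cycleRange h0]
  simp
  omega

theorem sign_cyc {n p : ℕ} (hp : 0 < p) (hpn : p ≤ n) (hodd : Odd p) :
    Perm.sign (cyc n p hp hpn) = 1 := by
  rw [cyc, Fin.sign_cycleRange]
  apply Even.neg_one_pow
  show Even (p - 1)
  obtain ⟨k, hk⟩ := hodd
  exact ⟨k, by omega⟩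

/-- The setwise stabilizer of `{0, …, p-1}`. -/
def stabT (n p : ℕ) : Subgroup (Perm (Fin n)) where
  carrier := {g | ∀ i : Fin n, (g i).val < p ↔ i.val < p}
  one_mem' := fun _ => Iff.rfl
  mul_mem' := fun {a b} ha hb i => (ha (b i)).trans (hb i)
  inv_mem' := fun {a} ha i => by
    have h := ha (a⁻¹ i)
    have e : a (a⁻¹ i) = i := a.apply_symm_apply i
    rw [e] at h
    exact h.symm

theorem mem_stabT {n p : ℕ} {g : Perm (Fin n)} :
    g ∈ stabT n p ↔ ∀ i : Fin n, (g i).val < p ↔ i.val < p := Iff.rfl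

theorem centralizer_cyc_le {n p : ℕ} (hp2 : 2 ≤ p) (hpn : p ≤ n) (g : Perm (Fin n))
    (hg : g * cyc n p (by omega) hpn = cyc n p (by omega) hpn * g) : g ∈ stabT n p := by
  rw [mem_stabT]
  intro i
  have h1 : cyc n p (by omega) hpn (g i) = g (cyc n p (by omega) hpn i) := by
    have := congrArg (fun f : Perm (Fin n) => f i) hg
    simpa [Perm.mul_apply] using this.symm
  have h2 : p ≤ (g i).val ↔ p ≤ i.val := by
    rw [← cyc_fix_iff hp2 hpn, ← cyc_fix_iff hp2 hpn, h1]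
    exact g.injective.eq_iff
  omega

theorem swap_mem_stabT {n p : ℕ} (a b : Fin n) (ha : a.val < p) (hb : b.val < p) :
    swap a b ∈ stabT n p := by
  rw [mem_stabT]
  intro i
  by_cases h1 : i = a
  · rw [h1, swap_apply_left]
    exact ⟨fun _ => ha, fun _ => hb⟩
  by_cases h2 : i = b
  · rw [h2, swap_apply_right]
    exact ⟨fun _ => hb, fun _ => ha⟩
  rw [swap_apply_of_ne_of_ne h1 h2]

/-- The conjugate of `cyc` by the transposition `(0 1)`. -/
def cyc' (n p : ℕ) (hp2 : 2 ≤ p) (hpn : p ≤ n) : Perm (Fin n) :=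
  swap (⟨0, by omega⟩ : Fin n) ⟨1, by omega⟩ * cyc n p (by omega) hpn *
    (swap (⟨0, by omega⟩ : Fin n) ⟨1, by omega⟩)⁻¹

theorem orderOf_cyc' {n p : ℕ} (hp2 : 2 ≤ p) (hpn : p ≤ n) : orderOf (cyc' n p hp2 hpn) = p := by
  have h := orderOf_injective (MulAut.conj (swap (⟨0, by omega⟩ : Fin n) ⟨1, by omega⟩)).toMonoidHom
    (MulAut.conj (swap (⟨0, by omega⟩ : Fin n) ⟨1, by omega⟩)).injective (cyc n p (by omega) hpn)
  rw [orderOf_cyc hp2 hpn] at h
  exact h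

theorem sign_cyc' {n p : ℕ} (hp2 : 2 ≤ p) (hpn : p ≤ n) (hodd : Odd p) :
    Perm.sign (cyc' n p hp2 hpn) = 1 := by
  rw [cyc', Perm.sign_mul, Perm.sign_mul, Perm.sign_inv, sign_cyc _ hpn hodd, mul_one]
  exact Int.units_mul_self _

theorem centralizer_cyc'_le {n p : ℕ} (hp2 : 2 ≤ p) (hpn : p ≤ n) (g : Perm (Fin n))
    (hg : g * cyc' n p hp2 hpn = cyc' n p hp2 hpn * g) : g ∈ stabT n p := by
  obtain ⟨σ, hσ⟩ : ∃ σ : Perm (Fin n), σ = swap (⟨0, by omega⟩ : Fin n) ⟨1, by omega⟩ := ⟨_, rfl⟩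
  obtain ⟨x, hxdef⟩ : ∃ x : Perm (Fin n), x = cyc n p (by omega) hpn := ⟨_, rfl⟩
  have hσmem : σ ∈ stabT n p := by
    rw [hσ]
    exact swap_mem_stabT _ _ (by show 0 < p; omega) (by show 1 < p; omega)
  have hg' : g * (σ * x * σ⁻¹) = σ * x * σ⁻¹ * g := by
    rw [hσ, hxdef]
    exact hg
  have h1 : σ⁻¹ * g * σ * x = x * (σ⁻¹ * g * σ) := by
    have e1 : σ⁻¹ * g * σ * x = σ⁻¹ * (g * (σ * x * σ⁻¹)) * σ := by group
    rw [e1, hg']
    group
  have h2 : σ⁻¹ * g * σ ∈ stabT n p := by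
    apply centralizer_cyc_le hp2 hpn
    rw [← hxdef]
    exact h1
  have h3 := (stabT n p).mul_mem ((stabT n p).mul_mem hσmem h2) ((stabT n p).inv_mem hσmem)
  have e2 : σ * (σ⁻¹ * g * σ) * σ⁻¹ = g := by group
  rwa [e2] at h3

theorem cyc'_not_comm {n p : ℕ} (hp5 : 5 ≤ p) (hpn : p ≤ n) :
    cyc' n p (by omega) hpn * cyc n p (by omega) hpn ≠
      cyc n p (by omega) hpn * cyc' n p (by omega) hpn := by
  intro h
  obtain ⟨a0, ha0⟩ : ∃ a : Fin n, a = ⟨0, by omega⟩ := ⟨_, rfl⟩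
  obtain ⟨a1, ha1⟩ : ∃ a : Fin n, a = ⟨1, by omega⟩ := ⟨_, rfl⟩
  obtain ⟨a2, ha2⟩ : ∃ a : Fin n, a = ⟨2, by omega⟩ := ⟨_, rfl⟩
  obtain ⟨a3, ha3⟩ : ∃ a : Fin n, a = ⟨3, by omega⟩ := ⟨_, rfl⟩
  have hx0 : cyc n p (by omega) hpn a0 = a1 := by
    apply Fin.ext
    rw [cyc_val_lt _ hpn a0 (by rw [ha0]; show 0 < p - 1; omega), ha0, ha1]
  have hx1 : cyc n p (by omega) hpn a1 = a2 := by
    apply Fin.ext
    rw [cyc_val_lt _ hpn a1 (by rw [ha1]; show 1 < p - 1; omega), ha1, ha2]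
  have hx2 : cyc n p (by omega) hpn a2 = a3 := by
    apply Fin.ext
    rw [cyc_val_lt _ hpn a2 (by rw [ha2]; show 2 < p - 1; omega), ha2, ha3]
  have h01 : a0 ≠ a1 := by
    intro e
    have := congrArg Fin.val e
    rw [ha0, ha1] at this
    simp at this
  have h20 : a2 ≠ a0 := by
    intro e
    have := congrArg Fin.val e
    rw [ha0, ha2] at this
    simp at this
  have h21 : a2 ≠ a1 := by
    intro e
    have := congrArg Fin.val e
    rw [ha1, ha2] at this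
    simp at this
  have hs0 : swap a0 a1 a0 = a1 := swap_apply_left _ _
  have hs1 : swap a0 a1 a1 = a0 := swap_apply_right _ _
  have hs2 : swap a0 a1 a2 = a2 := swap_apply_of_ne_of_ne h20 h21
  have hc : cyc' n p (by omega) hpn = swap a0 a1 * cyc n p (by omega) hpn * (swap a0 a1)⁻¹ := by
    rw [ha0, ha1]
    rfl
  have h1 := congrArg (fun f : Perm (Fin n) => f a0) h
  simp only [Perm.mul_apply, hc, swap_inv, hx0, hx1, hx2, hs0, hs1, hs2] at h1
  have h2 := congrArg Fin.val h1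
  rw [ha0, ha3] at h2
  simp at h2

theorem not_sq_dvd_factorial (p n : ℕ) (hp : p.Prime) (h1 : p ≤ n) (h2 : n < 2 * p) :
    ¬ p ^ 2 ∣ n.factorial := by
  haveI := Fact.mk hp
  rw [padicValNat_dvd_iff_le (Nat.factorial_ne_zero n)]
  have hp2 := hp.two_le
  have hlog : Nat.log p n < 2 := Nat.log_lt_of_lt_pow (by omega) (by nlinarith)
  rw [padicValNat_factorial hlog]
  have hI : Finset.Ico 1 2 = {1} := by decide
  rw [hI, Finset.sum_singleton, pow_one]
  have hdiv : n / p = 1 := Nat.div_eq_of_lt_le (by omega) (by omega)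
  omega

theorem exists_good_prime (n : ℕ) (hn : 6 ≤ n) :
    ∃ p : ℕ, p.Prime ∧ 5 ≤ p ∧ p < n ∧ n < 2 * p := by
  obtain ⟨p, hp, h1, h2⟩ := Nat.exists_prime_lt_and_le_two_mul (n / 2) (by omega)
  have h4 : p ≠ 4 := by
    intro h
    rw [h] at hp
    exact absurd hp (by decide)
  have h5 : p ≠ 2 * (n / 2) := by
    intro h
    have h6 : 2 ∣ p := ⟨n / 2, h⟩
    have h7 := (Nat.prime_dvd_prime_iff_eq Nat.prime_two hp).mp h6
    omega
  exact ⟨p, hp, by omega, by omega, by omega⟩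

end Cfsg.Agent.Lib.Helper22.Cov
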