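import Mathlib
import Cfsg.Agent.Lib.Helper22.Cover2

set_option autoImplicit false

namespace Cfsg.Agent.Lib.Helper22.Cov

open Equiv

theorem sym_generic (n : ℕ) (hn : 6 ≤ n) :
    ¬ ∃ 𝓐 : Finset (Subgroup (Perm (Fin n))), ((∀ A ∈ 𝓐, A ≠ ⊤) ∧
      (∀ g : Perm (Fin n), ∃ A ∈ 𝓐, g ∈ A)) ∧
      (∀ 𝓑 : Finset (Subgroup (Perm (Fin n))), (∀ A ∈ 𝓑, A ≠ ⊤) ∧
        (∀ g : Perm (Fin n), ∃ A ∈ 𝓑, g ∈ A) → 𝓐.card ≤ 𝓑.card) ∧
      (∀ A ∈ 𝓐, Group.IsNilpotent ↥A) := by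
  obtain ⟨p, hp, hp5, hpn, h2p⟩ := exists_good_prime n hn
  have hcard : ¬ p ^ 2 ∣ Nat.card (Perm (Fin n)) := by
    rw [Nat.card_perm, Nat.card_fin]
    exact not_sq_dvd_factorial p n hp hpn.le h2p
  apply no_nilpotent_min_cover p hp hcard (cyc n p (by omega) hpn.le) (cyc' n p (by omega) hpn.le)
    (orderOf_cyc (by omega) hpn.le) (orderOf_cyc' (by omega) hpn.le) (cyc'_not_comm hp5 hpn.le)
    (stabT n p) ?_ (centralizer_cyc_le (by omega) hpn.le) (centralizer_cyc'_le (by omega) hpn.le)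
  intro htop
  have h1 : swap (⟨0, by omega⟩ : Fin n) ⟨p, hpn⟩ ∈ stabT n p := by
    rw [htop]
    exact Subgroup.mem_top _
  have h2 := (mem_stabT.mp h1 ⟨0, by omega⟩).mpr (by show 0 < p; omega)
  rw [swap_apply_left] at h2
  exact absurd h2 (by show ¬ p < p; omega)

theorem alt_generic (n : ℕ) (hn : 6 ≤ n) :
    ¬ ∃ 𝓐 : Finset (Subgroup ↥(alternatingGroup (Fin n))), ((∀ A ∈ 𝓐, A ≠ ⊤) ∧
      (∀ g : ↥(alternatingGroup (Fin n)), ∃ A ∈ 𝓐, g ∈ A)) ∧
      (∀ 𝓑 : Finset (Subgroup ↥(alternatingGroup (Fin n))), (∀ A ∈ 𝓑, A ≠ ⊤) ∧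
        (∀ g : ↥(alternatingGroup (Fin n)), ∃ A ∈ 𝓑, g ∈ A) → 𝓐.card ≤ 𝓑.card) ∧
      (∀ A ∈ 𝓐, Group.IsNilpotent ↥A) := by
  obtain ⟨p, hp, hp5, hpn, h2p⟩ := exists_good_prime n hn
  have hodd : Odd p := hp.odd_of_ne_two (by omega)
  have hcard : ¬ p ^ 2 ∣ Nat.card ↥(alternatingGroup (Fin n)) := by
    intro h
    have h1 : Nat.card ↥(alternatingGroup (Fin n)) ∣ n.factorial := by
      have := Subgroup.card_subgroup_dvd_card (alternatingGroup (Fin n))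
      rwa [Nat.card_perm, Nat.card_fin] at this
    exact not_sq_dvd_factorial p n hp hpn.le h2p (h.trans h1)
  have hxm : cyc n p (by omega) hpn.le ∈ alternatingGroup (Fin n) :=
    Perm.mem_alternatingGroup.mpr (sign_cyc _ _ hodd)
  have hxm' : cyc' n p (by omega) hpn.le ∈ alternatingGroup (Fin n) :=
    Perm.mem_alternatingGroup.mpr (sign_cyc' _ _ hodd)
  apply no_nilpotent_min_cover p hp hcard ⟨_, hxm⟩ ⟨_, hxm'⟩ ?_ ?_ ?_
    ((stabT n p).subgroupOf (alternatingGroup (Fin n))) ?_ ?_ ?_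
  · rw [Subgroup.orderOf_mk]
    exact orderOf_cyc (by omega) hpn.le
  · rw [Subgroup.orderOf_mk]
    exact orderOf_cyc' (by omega) hpn.le
  · intro h
    exact cyc'_not_comm hp5 hpn.le (congrArg Subtype.val h)
  · intro htop
    have h01 : (⟨0, by omega⟩ : Fin n) ≠ ⟨p, hpn⟩ := Fin.ne_of_val_ne (by show 0 ≠ p; omega)
    have h12 : (⟨1, by omega⟩ : Fin n) ≠ ⟨2, by omega⟩ := Fin.ne_of_val_ne (by show 1 ≠ 2; omega)
    have hτ : swap (⟨0, by omega⟩ : Fin n) ⟨p, hpn⟩ * swap (⟨1, by omega⟩ : Fin n) ⟨2, by omega⟩ ∈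
        alternatingGroup (Fin n) := by
      rw [Perm.mem_alternatingGroup, Perm.sign_mul, Perm.sign_swap h01, Perm.sign_swap h12]
      rfl
    have h1 : (⟨_, hτ⟩ : ↥(alternatingGroup (Fin n))) ∈
        (stabT n p).subgroupOf (alternatingGroup (Fin n)) := by
      rw [htop]
      exact Subgroup.mem_top _
    rw [Subgroup.mem_subgroupOf] at h1
    have h0a : (⟨0, by omega⟩ : Fin n) ≠ ⟨1, by omega⟩ := Fin.ne_of_val_ne (by show 0 ≠ 1; omega)
    have h0b : (⟨0, by omega⟩ : Fin n) ≠ ⟨2, by omega⟩ := Fin.ne_of_val_ne (by show 0 ≠ 2; omega)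
    have hτ0 : (swap (⟨0, by omega⟩ : Fin n) ⟨p, hpn⟩ * swap (⟨1, by omega⟩ : Fin n) ⟨2, by omega⟩)
        ⟨0, by omega⟩ = ⟨p, hpn⟩ := by
      rw [Perm.mul_apply, swap_apply_of_ne_of_ne h0a h0b, swap_apply_left]
    have h2 := (mem_stabT.mp h1 ⟨0, by omega⟩).mpr (by show 0 < p; omega)
    have h3 : ((swap (⟨0, by omega⟩ : Fin n) ⟨p, hpn⟩ *
        swap (⟨1, by omega⟩ : Fin n) ⟨2, by omega⟩) ⟨0, by omega⟩ : Fin n).val < p := h2
    rw [hτ0] at h3
    exact absurd h3 (by show ¬ p < p; omega)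
  · intro g hg
    rw [Subgroup.mem_subgroupOf]
    exact centralizer_cyc_le (by omega) hpn.le g (congrArg Subtype.val hg)
  · intro g hg
    rw [Subgroup.mem_subgroupOf]
    exact centralizer_cyc'_le (by omega) hpn.le g (congrArg Subtype.val hg)

theorem key4 : ∀ g : Perm (Fin 4),
    g * Fin.cycleRange (2 : Fin 4) = Fin.cycleRange (2 : Fin 4) * g → Perm.sign g = 1 := by
  decide

theorem key4' : ∀ g : Perm (Fin 4),
    g * (swap (2 : Fin 4) 3 * Fin.cycleRange (2 : Fin 4) * swap (2 : Fin 4) 3) =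
      (swap (2 : Fin 4) 3 * Fin.cycleRange (2 : Fin 4) * swap (2 : Fin 4) 3) * g →
    Perm.sign g = 1 := by
  decide

set_option maxRecDepth 100000 in
theorem sym_four :
    ¬ ∃ 𝓐 : Finset (Subgroup (Perm (Fin 4))), ((∀ A ∈ 𝓐, A ≠ ⊤) ∧
      (∀ g : Perm (Fin 4), ∃ A ∈ 𝓐, g ∈ A)) ∧
      (∀ 𝓑 : Finset (Subgroup (Perm (Fin 4))), (∀ A ∈ 𝓑, A ≠ ⊤) ∧
        (∀ g : Perm (Fin 4), ∃ A ∈ 𝓑, g ∈ A) → 𝓐.card ≤ 𝓑.card) ∧
      (∀ A ∈ 𝓐, Group.IsNilpotent ↥A) := by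
  have hcard : ¬ 3 ^ 2 ∣ Nat.card (Perm (Fin 4)) := by
    rw [Nat.card_perm, Nat.card_fin]
    decide
  apply no_nilpotent_min_cover 3 Nat.prime_three hcard (Fin.cycleRange (2 : Fin 4))
    (swap (2 : Fin 4) 3 * Fin.cycleRange (2 : Fin 4) * swap (2 : Fin 4) 3) ?_ ?_ ?_
    (alternatingGroup (Fin 4)) ?_ ?_ ?_
  · haveI := Fact.mk Nat.prime_three
    exact orderOf_eq_prime (by decide) (by decide)
  · haveI := Fact.mk Nat.prime_three
    exact orderOf_eq_prime (by decide) (by decide)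
  · decide
  · intro htop
    have h1 : swap (0 : Fin 4) 1 ∈ alternatingGroup (Fin 4) := by
      rw [htop]
      exact Subgroup.mem_top _
    rw [Perm.mem_alternatingGroup] at h1
    revert h1
    decide
  · intro g hg
    exact Perm.mem_alternatingGroup.mpr (key4 g hg)
  · intro g hg
    exact Perm.mem_alternatingGroup.mpr (key4' g hg)

set_option maxRecDepth 100000 in
theorem key5s : ∀ g : Perm (Fin 5),
    g * Fin.cycleRange (4 : Fin 5) = Fin.cycleRange (4 : Fin 5) * g → Perm.sign g = 1 := by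
  decide

set_option maxRecDepth 100000 in
theorem key5s' : ∀ g : Perm (Fin 5),
    g * (swap (0 : Fin 5) 1 * Fin.cycleRange (4 : Fin 5) * swap (0 : Fin 5) 1) =
      (swap (0 : Fin 5) 1 * Fin.cycleRange (4 : Fin 5) * swap (0 : Fin 5) 1) * g →
    Perm.sign g = 1 := by
  decide

set_option maxRecDepth 100000 in
theorem sym_five :
    ¬ ∃ 𝓐 : Finset (Subgroup (Perm (Fin 5))), ((∀ A ∈ 𝓐, A ≠ ⊤) ∧
      (∀ g : Perm (Fin 5), ∃ A ∈ 𝓐, g ∈ A)) ∧
      (∀ 𝓑 : Finset (Subgroup (Perm (Fin 5))), (∀ A ∈ 𝓑, A ≠ ⊤) ∧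
        (∀ g : Perm (Fin 5), ∃ A ∈ 𝓑, g ∈ A) → 𝓐.card ≤ 𝓑.card) ∧
      (∀ A ∈ 𝓐, Group.IsNilpotent ↥A) := by
  have hcard : ¬ 5 ^ 2 ∣ Nat.card (Perm (Fin 5)) := by
    rw [Nat.card_perm, Nat.card_fin]
    decide
  apply no_nilpotent_min_cover 5 Nat.prime_five hcard (Fin.cycleRange (4 : Fin 5))
    (swap (0 : Fin 5) 1 * Fin.cycleRange (4 : Fin 5) * swap (0 : Fin 5) 1) ?_ ?_ ?_
    (alternatingGroup (Fin 5)) ?_ ?_ ?_
  · haveI := Fact.mk Nat.prime_five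
    exact orderOf_eq_prime (by decide) (by decide)
  · haveI := Fact.mk Nat.prime_five
    exact orderOf_eq_prime (by decide) (by decide)
  · decide
  · intro htop
    have h1 : swap (0 : Fin 5) 1 ∈ alternatingGroup (Fin 5) := by
      rw [htop]
      exact Subgroup.mem_top _
    rw [Perm.mem_alternatingGroup] at h1
    revert h1
    decide
  · intro g hg
    exact Perm.mem_alternatingGroup.mpr (key5s g hg)
  · intro g hg
    exact Perm.mem_alternatingGroup.mpr (key5s' g hg)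

set_option maxRecDepth 100000 in
theorem key5a : ∀ g : Perm (Fin 5),
    g * Fin.cycleRange (2 : Fin 5) = Fin.cycleRange (2 : Fin 5) * g → Perm.sign g = 1 →
      g 4 = 4 := by
  decide

set_option maxRecDepth 100000 in
theorem key5a' : ∀ g : Perm (Fin 5),
    g * (swap (2 : Fin 5) 3 * Fin.cycleRange (2 : Fin 5) * swap (2 : Fin 5) 3) =
      (swap (2 : Fin 5) 3 * Fin.cycleRange (2 : Fin 5) * swap (2 : Fin 5) 3) * g →
    Perm.sign g = 1 → g 4 = 4 := by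
  decide

set_option maxRecDepth 100000 in
theorem alt_five :
    ¬ ∃ 𝓐 : Finset (Subgroup ↥(alternatingGroup (Fin 5))), ((∀ A ∈ 𝓐, A ≠ ⊤) ∧
      (∀ g : ↥(alternatingGroup (Fin 5)), ∃ A ∈ 𝓐, g ∈ A)) ∧
      (∀ 𝓑 : Finset (Subgroup ↥(alternatingGroup (Fin 5))), (∀ A ∈ 𝓑, A ≠ ⊤) ∧
        (∀ g : ↥(alternatingGroup (Fin 5)), ∃ A ∈ 𝓑, g ∈ A) → 𝓐.card ≤ 𝓑.card) ∧
      (∀ A ∈ 𝓐, Group.IsNilpotent ↥A) := by
  have hcard : ¬ 3 ^ 2 ∣ Nat.card ↥(alternatingGroup (Fin 5)) := by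
    intro h
    have h1 : Nat.card ↥(alternatingGroup (Fin 5)) ∣ (5 : ℕ).factorial := by
      have := Subgroup.card_subgroup_dvd_card (alternatingGroup (Fin 5))
      rwa [Nat.card_perm, Nat.card_fin] at this
    exact absurd (h.trans h1) (by decide)
  have hxm : Fin.cycleRange (2 : Fin 5) ∈ alternatingGroup (Fin 5) :=
    Perm.mem_alternatingGroup.mpr (by decide)
  have hxm' : swap (2 : Fin 5) 3 * Fin.cycleRange (2 : Fin 5) * swap (2 : Fin 5) 3 ∈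
      alternatingGroup (Fin 5) := Perm.mem_alternatingGroup.mpr (by decide)
  have hcm : Fin.cycleRange (4 : Fin 5) ∈ alternatingGroup (Fin 5) :=
    Perm.mem_alternatingGroup.mpr (by decide)
  apply no_nilpotent_min_cover 3 Nat.prime_three hcard ⟨_, hxm⟩ ⟨_, hxm'⟩ ?_ ?_ ?_
    ((MulAction.stabilizer (Perm (Fin 5)) (4 : Fin 5)).subgroupOf (alternatingGroup (Fin 5)))
    ?_ ?_ ?_
  · rw [Subgroup.orderOf_mk]
    haveI := Fact.mk Nat.prime_three
    exact orderOf_eq_prime (by decide) (by decide)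
  · rw [Subgroup.orderOf_mk]
    haveI := Fact.mk Nat.prime_three
    exact orderOf_eq_prime (by decide) (by decide)
  · intro h
    have h2 : (swap (2 : Fin 5) 3 * Fin.cycleRange (2 : Fin 5) * swap (2 : Fin 5) 3) *
        Fin.cycleRange (2 : Fin 5) = Fin.cycleRange (2 : Fin 5) *
        (swap (2 : Fin 5) 3 * Fin.cycleRange (2 : Fin 5) * swap (2 : Fin 5) 3) :=
      congrArg Subtype.val h
    revert h2
    decide
  · intro htop
    have h1 : (⟨_, hcm⟩ : ↥(alternatingGroup (Fin 5))) ∈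
        (MulAction.stabilizer (Perm (Fin 5)) (4 : Fin 5)).subgroupOf (alternatingGroup (Fin 5)) := by
      rw [htop]
      exact Subgroup.mem_top _
    rw [Subgroup.mem_subgroupOf, MulAction.mem_stabilizer_iff, Perm.smul_def] at h1
    have h2 : Fin.cycleRange (4 : Fin 5) 4 = 4 := h1
    exact absurd h2 (by decide)
  · intro g hg
    rw [Subgroup.mem_subgroupOf, MulAction.mem_stabilizer_iff, Perm.smul_def]
    exact key5a g.1 (congrArg Subtype.val hg) (Perm.mem_alternatingGroup.mp g.2)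
  · intro g hg
    rw [Subgroup.mem_subgroupOf, MulAction.mem_stabilizer_iff, Perm.smul_def]
    exact key5a' g.1 (congrArg Subtype.val hg) (Perm.mem_alternatingGroup.mp g.2)

end Cfsg.Agent.Lib.Helper22.Cov
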