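import Mathlib

/-!
Helper lemmas (helper22): Wielandt's counting argument for subgroups of prime power order.
-/

namespace Cfsg.Agent.Lib.Helper22

open scoped Pointwise

/-- If `d` divides the size of every orbit meeting an invariant predicate `Q`, then `d` divides
the number of points satisfying `Q`. -/
theorem dvd_card_subtype_of_dvd_index {G α : Type*} [Group G] [MulAction G α] [Finite α]
    (Q : α → Prop) (hQ : ∀ (g : G) (a : α), Q a → Q (g • a)) (d : ℕ)
    (hd : ∀ a, Q a → d ∣ (MulAction.stabilizer G a).index) : d ∣ Nat.card {a // Q a} := by
  classical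
  haveI : Fintype α := Fintype.ofFinite α
  haveI : Fintype (MulAction.orbitRel.Quotient G α) := Fintype.ofFinite _
  rw [Nat.card_eq_fintype_card, Fintype.card_subtype]
  rw [Finset.card_eq_sum_card_fiberwise
    (f := fun a => (Quotient.mk'' a : MulAction.orbitRel.Quotient G α)) (t := Finset.univ)
    (fun x _ => Finset.mem_coe.mpr (Finset.mem_univ _))]
  apply Finset.dvd_sum
  intro ω _
  induction ω using Quotient.inductionOn' with
  | h b =>
    by_cases hb : Q b
    · have hfib : (Finset.univ.filter Q).filter
          (fun a => (Quotient.mk'' a : MulAction.orbitRel.Quotient G α) = Quotient.mk'' b)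
          = (MulAction.orbit G b).toFinset := by
        ext a
        simp only [Finset.mem_filter, Finset.mem_univ, true_and, Set.mem_toFinset]
        rw [Quotient.eq'', MulAction.orbitRel_apply]
        constructor
        · exact fun h => h.2
        · rintro ⟨g, rfl⟩
          exact ⟨hQ g b hb, ⟨g, rfl⟩⟩
      rw [hfib, Set.toFinset_card, ← Nat.card_eq_fintype_card, Nat.card_coe_set_eq,
        ← MulAction.index_stabilizer]
      exact hd b hb
    · have hfib : (Finset.univ.filter Q).filter
          (fun a => (Quotient.mk'' a : MulAction.orbitRel.Quotient G α) = Quotient.mk'' b)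
          = ∅ := by
        ext a
        simp only [Finset.mem_filter, Finset.mem_univ, true_and, Finset.notMem_empty, iff_false,
          not_and]
        intro ha h
        rw [Quotient.eq'', MulAction.orbitRel_apply] at h
        obtain ⟨g, rfl⟩ := h
        apply hb
        have := hQ g⁻¹ _ ha
        rwa [inv_smul_smul] at this
      rw [hfib, Finset.card_empty]
      exact dvd_zero d

/-- Wielandt's congruence: in a group of order `p ^ β * m`, the number `N` of subgroups of order
`p ^ β` satisfies `choose (p ^ β * m) (p ^ β) ≡ N * m [MOD p * m]`. -/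
theorem wielandt_count {G : Type*} [Group G] [Finite G] (p β m : ℕ) (hp : p.Prime)
    (hG : Nat.card G = p ^ β * m) :
    Nat.choose (p ^ β * m) (p ^ β) ≡
      Nat.card {H : Subgroup G // Nat.card H = p ^ β} * m [MOD p * m] := by
  classical
  haveI : Fintype G := Fintype.ofFinite G
  have hnpos : 0 < p ^ β := pow_pos hp.pos β
  have hmpos : 0 < m := by
    rcases Nat.eq_zero_or_pos m with h | h
    · rw [h, mul_zero] at hG
      have : 0 < Nat.card G := Nat.card_pos
      omega
    · exact h
  -- good sets: left cosets of subgroups of order p ^ β
  let good : Set G → Prop := fun X => ∃ K : Subgroup G, Nat.card K = p ^ β ∧ ∃ g : G, X = g • (K : Set G)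
  have hgood_card : ∀ X, good X → X.ncard = p ^ β := by
    rintro X ⟨K, hK, g, rfl⟩
    rw [← Set.image_smul, Set.ncard_image_of_injective _ (MulAction.injective g)]
    exact hK
  -- (1) counting all sets of size p ^ β
  have hall : Fintype.card {X : Set G // X.ncard = p ^ β} = Nat.choose (p ^ β * m) (p ^ β) := by
    have e : {X : Set G // X.ncard = p ^ β} ≃ {s : Finset G // s.card = p ^ β} :=
      { toFun := fun X => ⟨X.1.toFinset, by rw [← Set.ncard_eq_toFinset_card']; exact X.2⟩
        invFun := fun s => ⟨(s.1 : Set G), by rw [Set.ncard_coe_finset]; exact s.2⟩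
        left_inv := fun X => Subtype.ext (by simp)
        right_inv := fun s => Subtype.ext (by simp) }
    rw [Fintype.card_congr e, Fintype.card_finset_len, ← Nat.card_eq_fintype_card, hG]
  -- (2) splitting
  have hsplit : Fintype.card {X : Set G // X.ncard = p ^ β}
      = Fintype.card {X : Set G // good X}
        + Fintype.card {X : Set G // X.ncard = p ^ β ∧ ¬ good X} := by
    rw [Fintype.card_subtype, Fintype.card_subtype, Fintype.card_subtype]
    rw [← Finset.card_filter_add_card_filter_not (p := good)
      (s := Finset.univ.filter (fun X : Set G => X.ncard = p ^ β))]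
    congr 1
    · congr 1
      ext X
      simp only [Finset.mem_filter, Finset.mem_univ, true_and]
      exact ⟨fun h => h.2, fun h => ⟨hgood_card X h, h⟩⟩
    · congr 1
      ext X
      simp only [Finset.mem_filter, Finset.mem_univ, true_and]
  -- (3) the good sets
  have hgood : Fintype.card {X : Set G // good X}
      = Nat.card {H : Subgroup G // Nat.card H = p ^ β} * m := by
    have e : (Σ K : {H : Subgroup G // Nat.card H = p ^ β}, G ⧸ K.1) ≃ {X : Set G // good X} := by
      refine Equiv.ofBijective
        (fun x => ⟨x.2.out • (x.1.1 : Set G), ⟨x.1.1, x.1.2, x.2.out, rfl⟩⟩) ⟨?_, ?_⟩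
      · rintro ⟨K, q⟩ ⟨K', q'⟩ h
        have h1 : q.out • (K.1 : Set G) = q'.out • (K'.1 : Set G) := congrArg Subtype.val h
        have h2 : q'.out⁻¹ * q.out ∈ K'.1 := by
          have : q.out ∈ q.out • (K.1 : Set G) := by
            rw [mem_leftCoset_iff, inv_mul_cancel]
            exact K.1.one_mem
          rw [h1, mem_leftCoset_iff] at this
          exact this
        have hKK : K.1 = K'.1 := by
          ext x
          have e1 : x ∈ K.1 ↔ q.out * x ∈ q.out • (K.1 : Set G) := by
            rw [mem_leftCoset_iff, inv_mul_cancel_left]
            rfl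
          rw [e1, h1, mem_leftCoset_iff, ← mul_assoc]
          exact Subgroup.mul_mem_cancel_left _ h2
        have hK : K = K' := Subtype.ext hKK
        subst hK
        have h3 : q.out⁻¹ * q'.out ∈ K.1 := (leftCoset_eq_iff K.1).mp h1
        have h4 : (QuotientGroup.mk q.out : G ⧸ K.1) = QuotientGroup.mk q'.out :=
          QuotientGroup.eq.mpr h3
        rw [QuotientGroup.out_eq', QuotientGroup.out_eq'] at h4
        rw [h4]
      · rintro ⟨X, K, hK, g, rfl⟩
        refine ⟨⟨⟨K, hK⟩, QuotientGroup.mk g⟩, Subtype.ext ?_⟩
        show (QuotientGroup.mk g : G ⧸ K).out • (K : Set G) = g • (K : Set G)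
        rw [leftCoset_eq_iff]
        exact QuotientGroup.eq.mp (QuotientGroup.out_eq' _)
    haveI : Fintype {H : Subgroup G // Nat.card H = p ^ β} := Fintype.ofFinite _
    rw [← Nat.card_eq_fintype_card, ← Nat.card_congr e, Nat.card_sigma]
    have hidx : ∀ K : {H : Subgroup G // Nat.card H = p ^ β}, Nat.card (G ⧸ K.1) = m := by
      intro K
      have := Subgroup.card_mul_index K.1
      rw [K.2, hG] at this
      exact Nat.eq_of_mul_eq_mul_left hnpos this
    rw [Finset.sum_congr rfl (fun K _ => hidx K), Finset.sum_const, Finset.card_univ,
      smul_eq_mul, Nat.card_eq_fintype_card]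
  -- (4) the bad sets
  have hbad : p * m ∣ Fintype.card {X : Set G // X.ncard = p ^ β ∧ ¬ good X} := by
    rw [← Nat.card_eq_fintype_card]
    apply dvd_card_subtype_of_dvd_index (G := G)
    · rintro g X ⟨hX, hXg⟩
      refine ⟨?_, ?_⟩
      · rw [← Set.image_smul, Set.ncard_image_of_injective _ (MulAction.injective g)]
        exact hX
      · rintro ⟨K, hK, h, hh⟩
        apply hXg
        refine ⟨K, hK, g⁻¹ * h, ?_⟩
        rw [mul_smul, ← hh, inv_smul_smul]
    · rintro X ⟨hXn, hXbad⟩
      -- the stabilizer has order dividing p ^ β
      have hSdvd : Nat.card (MulAction.stabilizer G X) ∣ p ^ β := by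
        have h1 := dvd_card_subtype_of_dvd_index (G := MulAction.stabilizer G X) (α := G)
          (fun a => a ∈ X)
          (by
            intro s a ha
            have hs : (s : G) • X = X := s.2
            have : (s : G) • a ∈ (s : G) • X := Set.smul_mem_smul_set ha
            rw [hs] at this
            exact this)
          (Nat.card (MulAction.stabilizer G X))
          (by
            intro a _
            have : MulAction.stabilizer (MulAction.stabilizer G X) a = ⊥ := by
              ext s
              rw [MulAction.mem_stabilizer_iff, Subgroup.mem_bot]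
              constructor
              · intro h
                have h' : (s : G) * a = a := h
                exact Subtype.ext (mul_eq_right.mp h')
              · rintro rfl
                exact one_smul _ a
            rw [this, Subgroup.index_bot])
        have h2 : Nat.card {a // a ∈ X} = p ^ β := hXn
        rwa [h2] at h1
      obtain ⟨j, hj, hSj⟩ := (Nat.dvd_prime_pow hp).mp hSdvd
      have hidx := Subgroup.card_mul_index (MulAction.stabilizer G X)
      rw [hSj, hG] at hidx
      rcases Nat.lt_or_ge j β with hlt | hge
      · -- index = p ^ (β - j) * m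
        have h3 : (MulAction.stabilizer G X).index = p ^ (β - j) * m := by
          have : p ^ j * (MulAction.stabilizer G X).index = p ^ j * (p ^ (β - j) * m) := by
            rw [hidx, ← mul_assoc, ← pow_add]
            congr 2
            omega
          exact Nat.eq_of_mul_eq_mul_left (pow_pos hp.pos j) this
        rw [h3]
        exact Nat.mul_dvd_mul_right (dvd_pow_self p (by omega)) m
      · exfalso
        apply hXbad
        have hjβ : j = β := le_antisymm hj hge
        rw [hjβ] at hSj
        have hXne : X.Nonempty := by
          rw [← Set.ncard_pos]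
          omega
        obtain ⟨x, hx⟩ := hXne
        refine ⟨(MulAction.stabilizer G X).map (MulAut.conj x⁻¹).toMonoidHom, ?_, x, ?_⟩
        · rw [← hSj]
          exact (Nat.card_congr ((MulAction.stabilizer G X).equivMapOfInjective _
            (MulAut.conj x⁻¹).injective).toEquiv).symm
        · symm
          apply Set.eq_of_subset_of_ncard_le _ _ (Set.toFinite _)
          · rintro _ ⟨k, ⟨s, hs, rfl⟩, rfl⟩
            have hs' : s • X = X := hs
            have : s • x ∈ s • X := Set.smul_mem_smul_set hx
            rw [hs'] at this
            have e : x • ((MulAut.conj x⁻¹).toMonoidHom s) = s • x := by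
              show x * (x⁻¹ * s * x⁻¹⁻¹) = s * x
              group
            show x • ((MulAut.conj x⁻¹).toMonoidHom s) ∈ X
            rw [e]
            exact this
          · rw [← Set.image_smul, Set.ncard_image_of_injective _ (MulAction.injective x), hXn]
            have : ((MulAction.stabilizer G X).map (MulAut.conj x⁻¹).toMonoidHom : Set G).ncard
                = Nat.card (MulAction.stabilizer G X) :=
              (Nat.card_congr ((MulAction.stabilizer G X).equivMapOfInjective _
                (MulAut.conj x⁻¹).injective).toEquiv).symm
            rw [this, hSj]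
  -- (5) conclusion
  obtain ⟨c, hc⟩ := hbad
  show Nat.choose (p ^ β * m) (p ^ β) % (p * m)
    = (Nat.card {H : Subgroup G // Nat.card H = p ^ β} * m) % (p * m)
  rw [← hall, hsplit, hgood, hc]
  exact Nat.add_mul_mod_self_left _ _ _

/-- A finite cyclic group of order `n * m` has exactly one subgroup of order `n`. -/
theorem card_subgroups_cyclic {C : Type*} [Group C] [Finite C] [IsCyclic C] (n m : ℕ)
    (hn : 0 < n) (hC : Nat.card C = n * m) :
    Nat.card {H : Subgroup C // Nat.card H = n} = 1 := by
  classical
  haveI : Fintype C := Fintype.ofFinite C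
  have key : ∀ H : Subgroup C, Nat.card H = n → (H : Set C) = {x | x ^ n = 1} := by
    intro H hH
    apply Set.eq_of_subset_of_ncard_le _ _ (Set.toFinite _)
    · intro x hx
      have h0 : (⟨x, hx⟩ : H) ^ Nat.card H = 1 := pow_card_eq_one'
      rw [hH] at h0
      have := congrArg Subtype.val h0
      simpa using this
    · have h1 : ({x : C | x ^ n = 1} : Set C).ncard ≤ n := by
        rw [Set.ncard_eq_toFinset_card']
        have := IsCyclic.card_pow_eq_one_le (α := C) hn
        convert this using 2
        ext x
        simp
      have h2 : (H : Set C).ncard = n := hH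
      rw [h2]
      exact h1
  rw [Nat.card_eq_one_iff_unique]
  constructor
  · refine ⟨fun H K => Subtype.ext (SetLike.coe_injective ?_)⟩
    rw [key H.1 H.2, key K.1 K.2]
  · obtain ⟨g, hg⟩ := IsCyclic.exists_generator (α := C)
    have hord : orderOf g = n * m := by
      rw [orderOf_eq_card_of_forall_mem_zpowers hg, hC]
    have hg0 : orderOf g ≠ 0 := (orderOf_pos g).ne'
    have hdvd : n ∣ orderOf g := by
      rw [hord]
      exact dvd_mul_right n m
    have h1 := orderOf_pow_orderOf_div hg0 hdvd
    exact ⟨⟨Subgroup.zpowers (g ^ (orderOf g / n)), by rw [Nat.card_zpowers, h1]⟩⟩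

end Cfsg.Agent.Lib.Helper22
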