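import Mathlib
import Cfsg.Agent.Lib.Helper22.Wielandt

/-!
Helper lemmas (helper22): automorphism groups of `2`-groups with a cyclic subgroup of index
at most two have no elements of prime order at least five.
-/

namespace Cfsg.Agent.Lib.Helper22

open scoped Pointwise

/-- The conjugation action of the normalizer of `Q` on `Q`. -/
def normalizerConjHom {G : Type*} [Group G] (Q : Subgroup G) :
    ↥(Subgroup.normalizer (Q : Set G)) →* MulAut ↥Q where
  toFun n :=
    { toFun := fun x => ⟨n * x * n⁻¹, (Subgroup.mem_normalizer_iff.mp n.2 x).mp x.2⟩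
      invFun := fun x => ⟨n⁻¹ * x * n, (Subgroup.mem_normalizer_iff''.mp n.2 x).mp x.2⟩
      left_inv := fun x => Subtype.ext (by simp [mul_assoc])
      right_inv := fun x => Subtype.ext (by simp [mul_assoc])
      map_mul' := fun x y => Subtype.ext (by simp [mul_assoc]) }
  map_one' := by ext x; simp
  map_mul' a b := by ext x; simp [mul_assoc]

theorem normalizerConjHom_apply_coe {G : Type*} [Group G] (Q : Subgroup G)
    (n : ↥(Subgroup.normalizer (Q : Set G))) (x : ↥Q) :
    ((normalizerConjHom Q n x : ↥Q) : G) = n * x * n⁻¹ := rfl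

/-- A group of automorphisms of order a power of a prime `r ≥ 5` acts trivially on a `2`-group
having an element `c` with `|Q| ≤ 2 * orderOf c`. -/
theorem trivial_action_of_cyclic_index_two {Q R : Type*} [Group Q] [Finite Q] [Group R]
    [Finite R] (r : ℕ) [hr : Fact r.Prime] (hr5 : 5 ≤ r) (hQ : IsPGroup 2 Q) (hR : IsPGroup r R)
    (c : Q) (hc : Nat.card Q ≤ 2 * orderOf c) (φ : R →* MulAut Q) :
    ∀ (g : R) (q : Q), φ g q = q := by
  classical
  haveI : Fact (Nat.Prime 2) := ⟨Nat.prime_two⟩
  letI : MulAction R Q := MulAction.compHom Q φ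
  have hsmul : ∀ (g : R) (x : Q), g • x = φ g x := fun g x => rfl
  have hstab : ∀ x : Q, (∃ g : R, φ g x ≠ x) → r ∣ (MulAction.stabilizer R x).index := by
    rintro x ⟨g, hg⟩
    obtain ⟨k, hk⟩ := hR.index (MulAction.stabilizer R x)
    rcases Nat.eq_zero_or_pos k with h0 | hpos
    · exfalso
      rw [h0, pow_zero, Subgroup.index_eq_one] at hk
      have : g ∈ MulAction.stabilizer R x := by
        rw [hk]
        exact Subgroup.mem_top g
      exact hg this
    · rw [hk]
      exact dvd_pow_self r hpos.ne'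
  -- the subgroup generated by squares
  let T : Subgroup Q := Subgroup.closure (Set.range (fun z : Q => z ^ 2))
  have hTsq : ∀ z : Q, z ^ 2 ∈ T := fun z => Subgroup.subset_closure ⟨z, rfl⟩
  have hTinv : ∀ (g : R) (t : Q), t ∈ T → φ g t ∈ T := by
    intro g
    have h1 : T ≤ T.comap (φ g).toMonoidHom := by
      rw [Subgroup.closure_le]
      rintro _ ⟨z, rfl⟩
      show φ g (z ^ 2) ∈ T
      rw [map_pow]
      exact hTsq _
    exact fun t ht => h1 ht
  have hTidx : T.index ≤ 4 := by
    have h1 : Nat.card (Subgroup.zpowers (c ^ 2)) ≤ Nat.card T :=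
      Subgroup.card_le_of_le ((Subgroup.zpowers_le).mpr (hTsq c))
    rw [Nat.card_zpowers] at h1
    have h2 : orderOf c ≤ 2 * orderOf (c ^ 2) := by
      rw [orderOf_pow' c two_ne_zero]
      have h3 := Nat.div_mul_cancel (Nat.gcd_dvd_left (orderOf c) 2)
      have h4 : (orderOf c).gcd 2 ≤ 2 := Nat.gcd_le_right _ (by norm_num)
      calc orderOf c = orderOf c / (orderOf c).gcd 2 * (orderOf c).gcd 2 := h3.symm
        _ ≤ orderOf c / (orderOf c).gcd 2 * 2 := Nat.mul_le_mul_left _ h4
        _ = 2 * (orderOf c / (orderOf c).gcd 2) := mul_comm _ _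
    have h5 := Subgroup.card_mul_index T
    have h6 : 0 < Nat.card T := Nat.card_pos
    by_contra hcon
    push Not at hcon
    have h7 : Nat.card T * 5 ≤ Nat.card T * T.index := Nat.mul_le_mul_left _ hcon
    linarith
  -- cosets of T are permuted
  have hcoset_sub : ∀ (g : R) (y : Q), g • (y • (T : Set Q)) ⊆ (g • y) • (T : Set Q) := by
    rintro g y _ ⟨q, hq, rfl⟩
    rw [mem_leftCoset_iff] at hq ⊢
    have e : (g • y)⁻¹ * g • q = φ g (y⁻¹ * q) := by
      rw [hsmul, hsmul, map_mul, map_inv]
    rw [e]
    exact hTinv g _ hq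
  have hcoset : ∀ (g : R) (y : Q), g • (y • (T : Set Q)) = (g • y) • (T : Set Q) := by
    intro g y
    apply Set.Subset.antisymm (hcoset_sub g y)
    have h1 := hcoset_sub g⁻¹ (g • y)
    rw [inv_smul_smul] at h1
    have h2 := Set.smul_set_mono (a := g) h1
    rwa [smul_inv_smul] at h2
  have hfixcoset : ∀ (g : R) (y : Q), g • (y • (T : Set Q)) = y • (T : Set Q) := by
    intro g y
    have hsub : MulAction.orbit R (y • (T : Set Q))
        ⊆ Set.range (fun q : Q ⧸ T => q.out • (T : Set Q)) := by
      rintro _ ⟨h, rfl⟩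
      refine ⟨QuotientGroup.mk (h • y), ?_⟩
      show (QuotientGroup.mk (h • y) : Q ⧸ T).out • (T : Set Q) = h • y • (T : Set Q)
      rw [hcoset, leftCoset_eq_iff]
      exact QuotientGroup.eq.mp (QuotientGroup.out_eq' _)
    have h1 : (MulAction.orbit R (y • (T : Set Q))).ncard ≤ 4 := by
      have hfin : (Set.range (fun q : Q ⧸ T => q.out • (T : Set Q))).Finite :=
        Set.finite_range _
      calc (MulAction.orbit R (y • (T : Set Q))).ncard
          ≤ (Set.range (fun q : Q ⧸ T => q.out • (T : Set Q))).ncard :=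
            Set.ncard_le_ncard hsub hfin
        _ = Nat.card (Set.range (fun q : Q ⧸ T => q.out • (T : Set Q))) :=
            (Nat.card_coe_set_eq _).symm
        _ ≤ Nat.card (Q ⧸ T) := Finite.card_range_le _
        _ ≤ 4 := hTidx
    rw [← MulAction.index_stabilizer] at h1
    obtain ⟨k, hk⟩ := hR.index (MulAction.stabilizer R (y • (T : Set Q)))
    rcases Nat.eq_zero_or_pos k with h0 | hpos
    · rw [h0, pow_zero, Subgroup.index_eq_one] at hk
      have h2 : g ∈ MulAction.stabilizer R (y • (T : Set Q)) := by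
        rw [hk]
        exact Subgroup.mem_top g
      exact h2
    · exfalso
      have h2 : r ≤ r ^ k := Nat.le_self_pow hpos.ne' r
      omega
  have hfixpt : ∀ y : Q, ∃ f : Q, f ∈ y • (T : Set Q) ∧ ∀ g : R, φ g f = f := by
    intro y
    by_contra hcon
    push Not at hcon
    have hdvd : r ∣ Nat.card {q : Q // q ∈ y • (T : Set Q)} := by
      apply dvd_card_subtype_of_dvd_index (G := R)
      · intro g q hq
        have h1 := Set.smul_mem_smul_set (a := g) hq
        rwa [hfixcoset] at h1
      · intro q hq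
        exact hstab q (hcon q hq)
    have hcard : Nat.card {q : Q // q ∈ y • (T : Set Q)} = Nat.card T := by
      show Nat.card ↥(y • (T : Set Q)) = Nat.card T
      rw [Nat.card_coe_set_eq, ← Set.image_smul,
        Set.ncard_image_of_injective _ (MulAction.injective y)]
      rfl
    rw [hcard] at hdvd
    obtain ⟨j, hj⟩ := IsPGroup.iff_card.mp (hQ.to_subgroup T)
    rw [hj] at hdvd
    have h2 := Nat.Prime.dvd_of_dvd_pow hr.out hdvd
    have h3 := Nat.le_of_dvd (by norm_num) h2
    omega
  -- the fixed-point subgroup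
  let F : Subgroup Q :=
    { carrier := {q | ∀ g : R, φ g q = q}
      one_mem' := fun g => map_one _
      mul_mem' := by
        intro a b ha hb g
        rw [map_mul, ha g, hb g]
      inv_mem' := by
        intro a ha g
        rw [map_inv, ha g] }
  have hFtop : F = ⊤ := by
    by_contra hF
    obtain ⟨n, hn⟩ := IsPGroup.iff_card.mp hQ
    obtain ⟨i, hi⟩ := IsPGroup.iff_card.mp (hQ.to_subgroup F)
    have hin : i < n := by
      have h1 : Nat.card F ∣ Nat.card Q := Subgroup.card_subgroup_dvd_card F
      have h2 : Nat.card F ≠ Nat.card Q := fun h => hF ((Subgroup.card_eq_iff_eq_top F).mp h)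
      rw [hi, hn] at h1 h2
      have h3 : i ≤ n := (Nat.pow_dvd_pow_iff_le_right (by norm_num)).mp h1
      rcases Nat.lt_or_eq_of_le h3 with h | h
      · exact h
      · exact absurd (by rw [h]) h2
    obtain ⟨M, hM, hFM⟩ := Sylow.exists_subgroup_card_pow_prime_le 2 (m := n - 1)
      (by rw [hn]; exact pow_dvd_pow 2 (Nat.sub_le n 1)) F hi (by omega)
    have hMidx : M.index = 2 := by
      have h3 := Subgroup.card_mul_index M
      rw [hM, hn] at h3
      have h4 : 2 ^ (n - 1) * M.index = 2 ^ (n - 1) * 2 := by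
        rw [h3, ← pow_succ]
        congr 1
        omega
      exact Nat.eq_of_mul_eq_mul_left (by positivity) h4
    have hTM : T ≤ M := by
      rw [Subgroup.closure_le]
      rintro _ ⟨z, rfl⟩
      exact Subgroup.sq_mem_of_index_two hMidx z
    have hMtop : M = ⊤ := by
      rw [eq_top_iff]
      intro y _
      obtain ⟨f, hf, hfix⟩ := hfixpt y
      rw [mem_leftCoset_iff] at hf
      have hfM : f ∈ M := hFM hfix
      have e : y = f * (y⁻¹ * f)⁻¹ := by group
      rw [e]
      exact M.mul_mem hfM (M.inv_mem (hTM hf))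
    rw [hMtop, Subgroup.index_top] at hMidx
    omega
  intro g q
  have h1 : q ∈ F := by
    rw [hFtop]
    exact Subgroup.mem_top q
  exact h1 g

end Cfsg.Agent.Lib.Helper22
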