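import Mathlib

set_option autoImplicit false

namespace Cfsg.Agent.Lib.Helper22.DL5

/-- the derived series of `G` from step one on is the derived series of the commutator subgroup -/
theorem derivedSeries_succ_eq_map (G : Type*) [Group G] (j : ℕ) :
    derivedSeries G (j+1) = (derivedSeries ↥(commutator G) j).map (commutator G).subtype := by
  induction j with
  | zero =>
    rw [derivedSeries_succ, derivedSeries_zero, derivedSeries_zero, ← MonoidHom.range_eq_map,
      Subgroup.range_subtype]
    rfl
  | succ j ih =>
    rw [derivedSeries_succ G (j+1), derivedSeries_succ (↥(commutator G)) j,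
      Subgroup.map_commutator, ← ih]

/-- more generally for any subgroup `B` containing the commutator subgroup:
`D^(j+1) G ≤ map (D^j B)` -/
theorem derivedSeries_succ_le_map {G : Type*} [Group G] (B : Subgroup G) (hB : commutator G ≤ B)
    (j : ℕ) : derivedSeries G (j+1) ≤ (derivedSeries ↥B j).map B.subtype := by
  induction j with
  | zero =>
    rw [derivedSeries_succ, derivedSeries_zero, derivedSeries_zero, ← MonoidHom.range_eq_map,
      Subgroup.range_subtype]
    exact hB
  | succ j ih =>
    rw [derivedSeries_succ G (j+1), derivedSeries_succ (↥B) j, Subgroup.map_commutator]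
    exact Subgroup.commutator_mono ih ih

/-- lower bound step: if the commutator subgroup of `W` maps onto `H` and `D^j H ≠ 1`
then `D^(j+1) W ≠ 1`. -/
theorem derived_ne_bot_step {W H : Type*} [Group W] [Group H] (j : ℕ)
    (f : ↥(commutator W) →* H) (hf : Function.Surjective f) (hH : derivedSeries H j ≠ ⊥) :
    derivedSeries W (j+1) ≠ ⊥ := by
  intro h
  rw [derivedSeries_succ_eq_map, Subgroup.map_eq_bot_iff_of_injective _
    (Subgroup.subtype_injective _)] at h
  apply hH
  rw [← map_derivedSeries_eq hf j, h, Subgroup.map_bot]

/-- lower bound step, element form: if some subgroup `B ≤ W'` (given as a hom `g : K →* W` with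
image inside the commutator subgroup) maps onto `H` compatibly, then `D^(j+1) W ≠ 1`.
Precisely: `g : K →* W` with range in `commutator W`, `f : K →* H` surjective, and
`ker g ≤ ker f`-free version: `g` injective. -/
theorem derived_ne_bot_step' {W H K : Type*} [Group W] [Group H] [Group K] (j : ℕ)
    (g : K →* W) (hg : Function.Injective g) (hgc : g.range ≤ commutator W)
    (f : K →* H) (hf : Function.Surjective f) (hH : derivedSeries H j ≠ ⊥) :
    derivedSeries W (j+1) ≠ ⊥ := by
  intro h
  have h1 : derivedSeries K j ≠ ⊥ := by
    intro h2
    apply hH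
    rw [← map_derivedSeries_eq hf j, h2, Subgroup.map_bot]
  apply h1
  rw [eq_bot_iff]
  intro x hx
  have h3 : g x ∈ (derivedSeries ↥(commutator W) j).map (commutator W).subtype := by
    -- g factors through the commutator subgroup
    have h4 : (g.codRestrict (commutator W) (fun k => hgc ⟨k, rfl⟩)) x
        ∈ derivedSeries ↥(commutator W) j :=
      map_derivedSeries_le_derivedSeries _ j (Subgroup.mem_map_of_mem _ hx)
    exact ⟨_, h4, rfl⟩
  rw [← derivedSeries_succ_eq_map, h, Subgroup.mem_bot] at h3
  rw [Subgroup.mem_bot]
  exact hg (by rw [h3, map_one])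

end Cfsg.Agent.Lib.Helper22.DL5
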