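import Mathlib
import Cfsg.Agent.Lib.Helper22.DL2

set_option autoImplicit false
set_option maxHeartbeats 1000000

namespace Cfsg.Agent.Lib.Helper22.DL7

/-- square matrices over `F` (any finite index type) acting on vectors over an extension `K` -/
noncomputable def matToEnd {F K : Type*} [Field F] [Field K] (φ : F →+* K) (ι : Type*)
    [Fintype ι] [DecidableEq ι] : Matrix ι ι F →* Module.End K (ι → K) :=
  ((Matrix.toLinAlgEquiv' : Matrix ι ι K ≃ₐ[K]
      ((ι → K) →ₗ[K] (ι → K))).toAlgHom.toRingHom.toMonoidHom).comp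
    (φ.mapMatrix : Matrix ι ι F →+* Matrix ι ι K).toMonoidHom

theorem matToEnd_injective {F K : Type*} [Field F] [Field K] (φ : F →+* K) (ι : Type*)
    [Fintype ι] [DecidableEq ι] : Function.Injective (matToEnd φ ι) := by
  intro A B h
  have h1 : A.map φ = B.map φ :=
    (Matrix.toLinAlgEquiv' : Matrix ι ι K ≃ₐ[K] ((ι → K) →ₗ[K] (ι → K))).injective h
  exact Matrix.map_injective φ.injective h1

/-- a `2`-subgroup of the symplectic group `Sp_{2n}(F)`, `F` finite of odd order, has derived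
length at most `log₂ (2n) + 1` -/
theorem sp_derived_eq_bot {F : Type*} [Field F] [Fintype F] [DecidableEq F]
    (hq : Odd (Fintype.card F)) (n : ℕ)
    (R : Subgroup ↥(Matrix.symplecticGroup (Fin n) F)) (hR : IsPGroup 2 ↥R) :
    derivedSeries ↥R (Nat.log 2 (2 * n) + 1) = ⊥ := by
  classical
  obtain ⟨p₀, hp₀⟩ := CharP.exists F
  haveI := hp₀
  obtain ⟨k, hp₀prime, hqk⟩ := FiniteField.card F p₀
  haveI : CharP (AlgebraicClosure F) p₀ :=
    charP_of_injective_algebraMap (algebraMap F (AlgebraicClosure F)).injective p₀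
  have hpK : ((2 : ℕ) : AlgebraicClosure F) ≠ 0 := by
    intro h
    have hdvd : p₀ ∣ 2 := (CharP.cast_eq_zero_iff (AlgebraicClosure F) p₀ 2).mp h
    have h2 : p₀ = 2 := (Nat.prime_dvd_prime_iff_eq hp₀prime Nat.prime_two).mp hdvd
    rw [hqk, h2] at hq
    exact (Nat.not_even_iff_odd.mpr hq) ((Nat.even_pow.mpr ⟨even_two, PNat.ne_zero k⟩))
  haveI : Fact (Nat.Prime 2) := ⟨Nat.prime_two⟩
  have hρ : Function.Injective
      ((matToEnd (algebraMap F (AlgebraicClosure F)) (Fin n ⊕ Fin n)).comp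
        ((Submonoid.subtype (Matrix.symplecticGroup (Fin n) F)).comp R.subtype)) :=
    fun x y h => Subtype.ext (Subtype.ext (matToEnd_injective _ _ h))
  have hfin : Module.finrank (AlgebraicClosure F) (Fin n ⊕ Fin n → AlgebraicClosure F) = 2 * n := by
    rw [Module.finrank_fintype_fun_eq_card, Fintype.card_sum, Fintype.card_fin, two_mul]
  exact Cfsg.Agent.Lib.Helper22.DL.semisimple_case (K := AlgebraicClosure F) 2 hpK (2 * n) ↥R hR
    (Fin n ⊕ Fin n → AlgebraicClosure F) hfin _ hρ

end Cfsg.Agent.Lib.Helper22.DL7
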