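import Mathlib

set_option autoImplicit false
set_option maxHeartbeats 1000000

namespace Cfsg.Agent.Lib.Helper22.DL8

/-- Sylow glue for lower bounds on the derived length: if a `p`-group `W` with
`derivedSeries W k ≠ ⊥` embeds in the finite group `G`, then every Sylow `p`-subgroup `P` of `G`
has `derivedSeries P k ≠ ⊥`. -/
theorem sylow_derived_ne_bot_of_embedding {G : Type*} [Group G] [Finite G] {p : ℕ} [Fact p.Prime]
    {W : Type*} [Group W] (hW : IsPGroup p W) (φ : W →* G) (hφ : Function.Injective φ) (k : ℕ)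
    (hk : derivedSeries W k ≠ ⊥) (P : Sylow p G) : derivedSeries ↥(P : Subgroup G) k ≠ ⊥ := by
  intro hbot
  have hH : IsPGroup p φ.range := hW.of_surjective φ.rangeRestrict φ.rangeRestrict_surjective
  obtain ⟨Q, hQ⟩ := hH.exists_le_sylow
  obtain ⟨g, hg⟩ := MulAction.exists_smul_eq G Q P
  have hmem : ∀ w : W, g * φ w * g⁻¹ ∈ (P : Subgroup G) := by
    intro w
    rw [← hg, Sylow.coe_subgroup_smul]
    have h1 : φ w ∈ (Q : Subgroup G) := hQ ⟨w, rfl⟩
    have h2 := Subgroup.smul_mem_pointwise_smul (φ w) (MulAut.conj g) (Q : Subgroup G) h1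
    simpa [MulAut.smul_def] using h2
  let ψ : W →* ↥(P : Subgroup G) :=
    { toFun := fun w => ⟨g * φ w * g⁻¹, hmem w⟩
      map_one' := by ext; simp
      map_mul' := by intro a b; ext; simp }
  have hψ : Function.Injective ψ := by
    intro a b h
    have h1 : g * φ a * g⁻¹ = g * φ b * g⁻¹ := congrArg Subtype.val h
    apply hφ
    simpa using h1
  apply hk
  rw [eq_bot_iff]
  intro w hw
  have h1 : ψ w ∈ (derivedSeries W k).map ψ := Subgroup.mem_map_of_mem _ hw
  have h2 := map_derivedSeries_le_derivedSeries ψ k h1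
  rw [hbot, Subgroup.mem_bot] at h2
  rw [Subgroup.mem_bot]
  apply hψ
  rw [h2, map_one]

/-- the same with the embedded group given as a `p`-subgroup of `G` -/
theorem sylow_derived_ne_bot_of_subgroup {G : Type*} [Group G] [Finite G] {p : ℕ} [Fact p.Prime]
    (H : Subgroup G) (hH : IsPGroup p ↥H) (k : ℕ)
    (hk : derivedSeries ↥H k ≠ ⊥) (P : Sylow p G) : derivedSeries ↥(P : Subgroup G) k ≠ ⊥ :=
  sylow_derived_ne_bot_of_embedding hH H.subtype H.subtype_injective k hk P

end Cfsg.Agent.Lib.Helper22.DL8
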