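import Mathlib

/-!
Helper lemmas (helper22): an irreducible automorphism of prime order `p` of an elementary abelian
`q`-group `V` forces `|V| = q ^ e` with `e` the multiplicative order of `q` modulo `p`.
-/

namespace Cfsg.Agent.Lib.Helper22

open Polynomial in
/-- In a finite commutative domain in which every element satisfies `r ^ n = r` (`1 < n`), there
are at most `n` elements. -/
theorem card_le_of_forall_pow_eq_self {R : Type*} [CommRing R] [IsDomain R] [Finite R] (n : ℕ)
    (hn : 1 < n) (h : ∀ r : R, r ^ n = r) : Nat.card R ≤ n := by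
  classical
  haveI : Fintype R := Fintype.ofFinite R
  have hdeg : (X ^ n - X : R[X]).natDegree = n := by
    have h1 : (X : R[X]).degree < (X ^ n : R[X]).degree := by
      rw [degree_X_pow, degree_X]
      exact mod_cast hn
    rw [natDegree_eq_of_degree_eq (degree_sub_eq_left_of_degree_lt h1), natDegree_X_pow]
  have hne : (X ^ n - X : R[X]) ≠ 0 := by
    intro h0
    rw [h0, natDegree_zero] at hdeg
    omega
  have hsub : (Finset.univ : Finset R).val ⊆ (X ^ n - X : R[X]).roots := by
    intro r _
    rw [mem_roots hne, IsRoot.def, eval_sub, eval_pow, eval_X, h r, sub_self]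
  have h2 := card_le_degree_of_subset_roots hsub
  rw [hdeg, Finset.card_univ, ← Nat.card_eq_fintype_card] at h2
  exact h2

/-- An irreducible automorphism of prime order `p` of a finite elementary abelian `q`-group. -/
theorem card_of_irreducible_prime_order {V : Type*} [AddCommGroup V] [Finite V] [Nontrivial V]
    (p q : ℕ) [hp : Fact p.Prime] [hq : Fact q.Prime] (hpq : q ≠ p)
    (hqV : ∀ v : V, q • v = 0)
    (T : AddMonoid.End V) (hTp : T ^ p = 1) (hT1 : T ≠ 1)
    (hirr : ∀ W : AddSubgroup V, (∀ w ∈ W, T w ∈ W) → W = ⊥ ∨ W = ⊤) :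
    Nat.card V = q ^ orderOf (q : ZMod p) := by
  classical
  have hp' : p.Prime := hp.out
  have hq' : q.Prime := hq.out
  -- the order of `q` modulo `p`
  have hq0 : (q : ZMod p) ≠ 0 := by
    intro h0
    rw [ZMod.natCast_eq_zero_iff] at h0
    exact hpq ((Nat.prime_dvd_prime_iff_eq hp' hq').mp h0).symm
  have hepos : 0 < orderOf (q : ZMod p) := by
    rw [orderOf_pos_iff, isOfFinOrder_iff_pow_eq_one]
    exact ⟨p - 1, by have := hp'.two_le; omega, ZMod.pow_card_sub_one_eq_one hq0⟩
  have hqe1 : 1 < q ^ orderOf (q : ZMod p) := Nat.one_lt_pow hepos.ne' hq'.one_lt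
  have hpe : p ∣ q ^ orderOf (q : ZMod p) - 1 := by
    rw [← ZMod.natCast_eq_zero_iff, Nat.cast_sub hqe1.le, Nat.cast_pow, pow_orderOf_eq_one,
      Nat.cast_one, sub_self]
  -- fixed points are trivial
  have hfix : ∀ v : V, T v = v → v = 0 := by
    intro v hv
    have h1 := hirr (AddMonoidHom.eqLocus T (AddMonoidHom.id V)) (by
      intro w hw
      have hw' : T w = w := hw
      show T (T w) = T w
      rw [hw']
      exact hw')
    rcases h1 with h1 | h1
    · have h2 : v ∈ AddMonoidHom.eqLocus T (AddMonoidHom.id V) := hv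
      rw [h1, AddSubgroup.mem_bot] at h2
      exact h2
    · exfalso
      apply hT1
      ext w
      have h2 : w ∈ AddMonoidHom.eqLocus T (AddMonoidHom.id V) := by
        rw [h1]
        exact AddSubgroup.mem_top w
      exact h2
  -- `T ^ (q ^ e) = T`
  have hTqe : T ^ (q ^ orderOf (q : ZMod p)) = T := by
    obtain ⟨c, hc⟩ := hpe
    have h1 : q ^ orderOf (q : ZMod p) = p * c + 1 := by omega
    rw [h1, pow_succ, pow_mul, hTp, one_pow, one_mul]
  -- `|V| ≡ 1` modulo `p`
  have hmod : Nat.card V ≡ 1 [MOD p] := by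
    have hup : (Units.ofPowEqOne T p hTp hp'.ne_zero) ^ p = 1 := by
      ext : 1
      rw [Units.val_pow_eq_pow_val]
      exact hTp
    have hu1 : Units.ofPowEqOne T p hTp hp'.ne_zero ≠ 1 := by
      intro h
      apply hT1
      have h2 := congrArg Units.val h
      exact h2
    have hord : orderOf (Units.ofPowEqOne T p hTp hp'.ne_zero) = p := orderOf_eq_prime hup hu1
    have hG : IsPGroup p (Subgroup.zpowers (Units.ofPowEqOne T p hTp hp'.ne_zero)) :=
      IsPGroup.of_card (n := 1) (by rw [Nat.card_zpowers, hord, pow_one])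
    have h1 := hG.card_modEq_card_fixedPoints V
    have h2 : Nat.card (MulAction.fixedPoints
        (Subgroup.zpowers (Units.ofPowEqOne T p hTp hp'.ne_zero)) V) = 1 := by
      rw [Nat.card_eq_one_iff_unique]
      refine ⟨⟨?_⟩, ⟨⟨0, ?_⟩⟩⟩
      · rintro ⟨a, ha⟩ ⟨b, hb⟩
        have ha' := ha ⟨_, Subgroup.mem_zpowers _⟩
        have hb' := hb ⟨_, Subgroup.mem_zpowers _⟩
        have e1 : a = 0 := hfix a ha'
        have e2 : b = 0 := hfix b hb'
        subst e1 e2
        rfl
      · intro g
        show ((g : (AddMonoid.End V)ˣ) : AddMonoid.End V) 0 = 0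
        exact map_zero _
    rw [h2] at h1
    exact h1
  -- `|V|` is a power of `q`
  have hcard : ∃ k : ℕ, Nat.card V = q ^ k := by
    refine ⟨_, Nat.eq_prime_pow_of_unique_prime_dvd Nat.card_pos.ne' (fun {r} hr hrd => ?_)⟩
    haveI : Fact r.Prime := ⟨hr⟩
    obtain ⟨v, hv⟩ := exists_prime_addOrderOf_dvd_card' r hrd
    have h1 : addOrderOf v ∣ q := addOrderOf_dvd_of_nsmul_eq_zero (hqV v)
    rw [hv] at h1
    exact (Nat.prime_dvd_prime_iff_eq hr hq').mp h1
  obtain ⟨k, hk⟩ := hcard
  have hkpos : 0 < k := by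
    rcases Nat.eq_zero_or_pos k with h0 | h0
    · exfalso
      rw [h0, pow_zero] at hk
      have h1 := Finite.one_lt_card (α := V)
      omega
    · exact h0
  have hek : orderOf (q : ZMod p) ∣ k := by
    apply orderOf_dvd_of_pow_eq_one
    have h1 : ((q ^ k : ℕ) : ZMod p) = ((1 : ℕ) : ZMod p) := by
      rw [← hk]
      exact (ZMod.natCast_eq_natCast_iff _ _ _).mpr hmod
    rw [Nat.cast_pow, Nat.cast_one] at h1
    exact h1
  -- the commutative subring generated by `T`
  have hcommT : ∀ x ∈ ({T} : Set (AddMonoid.End V)), ∀ y ∈ ({T} : Set (AddMonoid.End V)),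
      x * y = y * x := by
    intro x hx y hy
    rw [Set.mem_singleton_iff] at hx hy
    rw [hx, hy]
  haveI hRcomm := Subring.isMulCommutative_closure hcommT
  have hcomm : ∀ a ∈ Subring.closure ({T} : Set (AddMonoid.End V)),
      ∀ b ∈ Subring.closure ({T} : Set (AddMonoid.End V)), Commute a b := by
    intro a ha b hb
    have h1 := mul_comm' (⟨a, ha⟩ : Subring.closure ({T} : Set (AddMonoid.End V))) ⟨b, hb⟩
    exact congrArg Subtype.val h1
  -- characteristic `q`
  haveI hchar : CharP (AddMonoid.End V) q := by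
    refine ⟨fun n => ?_⟩
    constructor
    · intro h0
      obtain ⟨v, hv⟩ := exists_ne (0 : V)
      have h1 : n • v = 0 := by
        have h2 := congrArg (fun f : AddMonoid.End V => f v) h0
        exact h2
      have h2 : addOrderOf v ∣ n := addOrderOf_dvd_of_nsmul_eq_zero h1
      have h3 : addOrderOf v ∣ q := addOrderOf_dvd_of_nsmul_eq_zero (hqV v)
      rcases (Nat.dvd_prime hq').mp h3 with h4 | h4
      · exfalso
        exact hv (AddMonoid.addOrderOf_eq_one_iff.mp h4)
      · rw [← h4]
        exact h2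
    · rintro ⟨c, rfl⟩
      ext v
      show (q * c) • v = 0
      rw [mul_comm, mul_nsmul, hqV]
  have hfrob : ∀ r ∈ Subring.closure ({T} : Set (AddMonoid.End V)),
      r ^ (q ^ orderOf (q : ZMod p)) = r := by
    intro r hr
    induction hr using Subring.closure_induction with
    | mem x hx =>
      rw [Set.mem_singleton_iff] at hx
      rw [hx]
      exact hTqe
    | zero => exact zero_pow (by positivity)
    | one => exact one_pow _
    | add x y hx hy ihx ihy =>
      rw [add_pow_char_pow_of_commute q _ (hcomm x hx y hy), ihx, ihy]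
    | neg x hx ihx =>
      rw [neg_pow, ihx, neg_one_pow_char_pow, neg_one_mul]
    | mul x y hx hy ihx ihy =>
      rw [(hcomm x hx y hy).mul_pow, ihx, ihy]
  have hinj : ∀ r ∈ Subring.closure ({T} : Set (AddMonoid.End V)), r ≠ 0 →
      ∀ v, r v = 0 → v = 0 := by
    intro r hr hr0 v hv
    have h1 := hirr (AddMonoidHom.ker r) (by
      intro w hw
      have hw' : r w = 0 := hw
      have h2 : r (T w) = T (r w) := by
        have h3 := congrArg (fun f : AddMonoid.End V => f w)
          (hcomm r hr T (Subring.subset_closure rfl)).eq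
        exact h3
      show r (T w) = 0
      rw [h2, hw', map_zero])
    rcases h1 with h1 | h1
    · have h2 : v ∈ AddMonoidHom.ker r := hv
      rw [h1, AddSubgroup.mem_bot] at h2
      exact h2
    · exfalso
      apply hr0
      ext w
      have h2 : w ∈ AddMonoidHom.ker r := by
        rw [h1]
        exact AddSubgroup.mem_top w
      exact h2
  -- instances on the subring
  haveI : Finite (AddMonoid.End V) :=
    Finite.of_injective (fun f : AddMonoid.End V => (f : V → V)) DFunLike.coe_injective
  letI : CommRing (Subring.closure ({T} : Set (AddMonoid.End V))) :=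
    { (inferInstance : Ring (Subring.closure ({T} : Set (AddMonoid.End V)))) with
      mul_comm := fun a b => mul_comm' a b }
  haveI : Nontrivial (Subring.closure ({T} : Set (AddMonoid.End V))) := ⟨⟨0, 1, by
    intro h
    have h1 : (0 : AddMonoid.End V) = 1 := congrArg Subtype.val h
    obtain ⟨v, hv⟩ := exists_ne (0 : V)
    have h2 := congrArg (fun f : AddMonoid.End V => f v) h1
    exact hv h2.symm⟩⟩
  haveI : NoZeroDivisors (Subring.closure ({T} : Set (AddMonoid.End V))) := ⟨by
    intro a b hab
    by_cases ha : a = 0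
    · exact Or.inl ha
    · right
      apply Subtype.ext
      ext v
      have h1 : (a : AddMonoid.End V) * (b : AddMonoid.End V) = 0 := congrArg Subtype.val hab
      have h2 : (a : AddMonoid.End V) ((b : AddMonoid.End V) v) = 0 := by
        have h3 := congrArg (fun f : AddMonoid.End V => f v) h1
        exact h3
      exact hinj a a.2 (fun h => ha (Subtype.ext h)) _ h2⟩
  haveI : IsDomain (Subring.closure ({T} : Set (AddMonoid.End V))) :=
    NoZeroDivisors.to_isDomain _
  have hRcard : Nat.card (Subring.closure ({T} : Set (AddMonoid.End V)))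
      ≤ q ^ orderOf (q : ZMod p) := by
    apply card_le_of_forall_pow_eq_self _ hqe1
    intro r
    apply Subtype.ext
    have h1 := hfrob r r.2
    exact h1
  -- evaluation at a non-zero vector is surjective
  obtain ⟨v₀, hv₀⟩ := exists_ne (0 : V)
  obtain ⟨W, hWmem⟩ : ∃ W : AddSubgroup V, ∀ v : V, v ∈ W ↔
      ∃ r ∈ Subring.closure ({T} : Set (AddMonoid.End V)), r v₀ = v := by
    refine ⟨(Subring.closure ({T} : Set (AddMonoid.End V))).toAddSubgroup.map
      (AddMonoidHom.eval v₀), fun v => ?_⟩
    constructor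
    · rintro ⟨r, hr, hrv⟩
      exact ⟨r, hr, hrv⟩
    · rintro ⟨r, hr, hrv⟩
      exact ⟨r, hr, hrv⟩
  have hsurj : ∀ v : V, ∃ r ∈ Subring.closure ({T} : Set (AddMonoid.End V)), r v₀ = v := by
    have hW := hirr W (by
      intro w hw
      obtain ⟨a, ha, rfl⟩ := (hWmem w).mp hw
      exact (hWmem _).mpr ⟨T * a,
        (Subring.closure ({T} : Set (AddMonoid.End V))).mul_mem (Subring.subset_closure rfl) ha,
        rfl⟩)
    rcases hW with hW | hW
    · exfalso
      have h1 : v₀ ∈ W := (hWmem v₀).mpr
        ⟨1, (Subring.closure ({T} : Set (AddMonoid.End V))).one_mem, rfl⟩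
      rw [hW, AddSubgroup.mem_bot] at h1
      exact hv₀ h1
    · intro v
      have h1 : v ∈ W := by
        rw [hW]
        exact AddSubgroup.mem_top v
      exact (hWmem v).mp h1
  have hVR : Nat.card V ≤ Nat.card (Subring.closure ({T} : Set (AddMonoid.End V))) := by
    apply Nat.card_le_card_of_surjective
      (fun r : Subring.closure ({T} : Set (AddMonoid.End V)) => (r : AddMonoid.End V) v₀)
    intro v
    obtain ⟨r, hr, hrv⟩ := hsurj v
    exact ⟨⟨r, hr⟩, hrv⟩
  -- conclusion
  have h1 : q ^ k ≤ q ^ orderOf (q : ZMod p) := by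
    rw [← hk]
    exact hVR.trans hRcard
  have h2 : k ≤ orderOf (q : ZMod p) := (Nat.pow_le_pow_iff_right hq'.one_lt).mp h1
  have h3 : orderOf (q : ZMod p) ≤ k := Nat.le_of_dvd hkpos hek
  rw [hk, le_antisymm h2 h3]

end Cfsg.Agent.Lib.Helper22
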