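import Mathlib
import Cfsg.Agent.Lib.Helper22.IrredPrime

/-!
Helper lemmas (helper22): group version of `card_of_irreducible_prime_order`.
-/

namespace Cfsg.Agent.Lib.Helper22

/-- A normal elementary abelian `q`-subgroup `A` on which `x` acts irreducibly and non-trivially
by conjugation, with `x ^ p` acting trivially, has order `q ^ e`, `e` the order of `q` mod `p`. -/
theorem card_of_minimal_invariant {G : Type*} [Group G] [Finite G] (p q : ℕ)
    [hp : Fact p.Prime] [hq : Fact q.Prime] (hpq : q ≠ p)
    (A : Subgroup G) [hAn : A.Normal] (hab : ∀ a ∈ A, ∀ b ∈ A, a * b = b * a)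
    (hexp : ∀ a ∈ A, a ^ q = 1)
    (x : G) (hxp : ∀ a ∈ A, x ^ p * a = a * x ^ p)
    (hx1 : ∃ a ∈ A, x * a ≠ a * x)
    (hirr : ∀ B : Subgroup G, B ≤ A → (∀ b ∈ B, x * b * x⁻¹ ∈ B) → B = ⊥ ∨ B = A) :
    Nat.card A = q ^ orderOf (q : ZMod p) := by
  classical
  letI : CommGroup A := { (inferInstance : Group A) with
    mul_comm := fun a b => Subtype.ext (hab a a.2 b b.2) }
  obtain ⟨a₀, ha₀, hxa₀⟩ := hx1
  haveI : Nontrivial (Additive A) := ⟨⟨Additive.ofMul ⟨a₀, ha₀⟩, Additive.ofMul 1, by
    intro h
    have h1 : (⟨a₀, ha₀⟩ : A) = 1 := h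
    have h2 : a₀ = 1 := congrArg Subtype.val h1
    apply hxa₀
    rw [h2, mul_one, one_mul]⟩⟩
  obtain ⟨T, hTv⟩ : ∃ T : AddMonoid.End (Additive A), ∀ v : Additive A,
      T v = Additive.ofMul (MulAut.conjNormal x (Additive.toMul v)) :=
    ⟨MonoidHom.toAdditive (MulAut.conjNormal x : MulAut A).toMonoidHom, fun v => rfl⟩
  have hT : ∀ n : ℕ, ∀ v : Additive A,
      (T ^ n) v = Additive.ofMul (MulAut.conjNormal (x ^ n) (Additive.toMul v)) := by
    intro n
    induction n with
    | zero =>
      intro v
      rw [pow_zero, pow_zero, map_one]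
      rfl
    | succ n ih =>
      intro v
      have h1 : (T ^ (n + 1)) v = (T ^ n) (T v) := by
        rw [pow_succ]
        rfl
      rw [h1, ih, hTv, pow_succ, map_mul]
      rfl
  have key := card_of_irreducible_prime_order (V := Additive A) p q hpq (by
      intro v
      show Additive.ofMul ((Additive.toMul v) ^ q) = 0
      have h1 : (Additive.toMul v) ^ q = 1 := by
        apply Subtype.ext
        rw [Subgroup.coe_pow]
        exact hexp _ (Additive.toMul v).2
      rw [h1]
      rfl)
    T (by
      refine DFunLike.ext _ _ (fun v => ?_)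
      rw [hT p v]
      show Additive.ofMul (MulAut.conjNormal (x ^ p) (Additive.toMul v)) = v
      have h1 : MulAut.conjNormal (x ^ p) (Additive.toMul v) = Additive.toMul v := by
        apply Subtype.ext
        rw [MulAut.conjNormal_apply, hxp _ (Additive.toMul v).2, mul_inv_cancel_right]
      rw [h1]
      rfl) (by
      intro h
      have h1 := congrArg (fun f : AddMonoid.End (Additive A) => f (Additive.ofMul ⟨a₀, ha₀⟩)) h
      have h2 : MulAut.conjNormal x (⟨a₀, ha₀⟩ : A) = ⟨a₀, ha₀⟩ := by
        have h1' : T (Additive.ofMul ⟨a₀, ha₀⟩) = Additive.ofMul ⟨a₀, ha₀⟩ := h1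
        rw [hTv] at h1'
        exact h1'
      have h3 := congrArg Subtype.val h2
      rw [MulAut.conjNormal_apply] at h3
      apply hxa₀
      have h4 : x * a₀ * x⁻¹ = a₀ := h3
      calc x * a₀ = x * a₀ * x⁻¹ * x := by group
        _ = a₀ * x := by rw [h4]) (by
      intro W hW
      have hB := hirr ((AddSubgroup.toSubgroup' W).map A.subtype) (Subgroup.map_subtype_le _) (by
        rintro b ⟨a, ha, rfl⟩
        refine ⟨MulAut.conjNormal x a, ?_, ?_⟩
        · have h1 : Additive.ofMul a ∈ W := ha
          have h2 := hW _ h1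
          rw [hTv] at h2
          exact h2
        · show ((MulAut.conjNormal x a : A) : G) = x * (a : G) * x⁻¹
          rw [MulAut.conjNormal_apply])
      rcases hB with hB | hB
      · left
        rw [eq_bot_iff]
        intro w hw
        have h1 : ((Additive.toMul w : A) : G) ∈ (AddSubgroup.toSubgroup' W).map A.subtype :=
          ⟨Additive.toMul w, hw, rfl⟩
        rw [hB, Subgroup.mem_bot] at h1
        have h2 : (Additive.toMul w : A) = 1 := Subtype.ext h1
        rw [AddSubgroup.mem_bot]
        exact h2
      · right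
        rw [eq_top_iff]
        intro w _
        have h1 : ((Additive.toMul w : A) : G) ∈ (AddSubgroup.toSubgroup' W).map A.subtype := by
          rw [hB]
          exact (Additive.toMul w).2
        obtain ⟨a, ha, hae⟩ := h1
        have h2 : a = Additive.toMul w := Subtype.ext hae
        rw [h2] at ha
        exact ha)
  exact key

end Cfsg.Agent.Lib.Helper22
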