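import Mathlib
import Cfsg.Agent.Lib.Helper22.CyclicIndexTwo

/-!
Helper lemmas (helper22): counting conjugacy classes of `p`-elements.  If the number of
classes of `p`-elements exceeds `(p + 1) |P| / (2 p)` then `N_G(P) = C_G(P)`.
-/

namespace Cfsg.Agent.Lib.Helper22

open scoped Pointwise

/-- Every element of `p`-power order is conjugate to an element of a given Sylow `p`-subgroup. -/
theorem exists_conj_mem_sylow {G : Type*} [Group G] [Finite G] {p : ℕ} [Fact p.Prime]
    (P : Sylow p G) (g : G) (k : ℕ) (hg : orderOf g = p ^ k) :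
    ∃ h : G, h * g * h⁻¹ ∈ (P : Subgroup G) := by
  have hz : IsPGroup p (Subgroup.zpowers g) :=
    IsPGroup.of_card (n := k) (by rw [Nat.card_zpowers, hg])
  obtain ⟨Q, hQ⟩ := hz.exists_le_sylow
  obtain ⟨h, rfl⟩ := MulAction.exists_smul_eq G Q P
  refine ⟨h, ?_⟩
  have h1 : g ∈ (Q : Subgroup G) := hQ (Subgroup.mem_zpowers g)
  have h2 : MulAut.conj h • g ∈ MulAut.conj h • (Q : Subgroup G) :=
    Subgroup.smul_mem_pointwise_smul _ _ _ h1
  exact h2

/-- A sum over a finite type bounded separately on a predicate and its complement. -/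
theorem sum_le_of_split {N : Type*} [Fintype N] (C : N → Prop) [DecidablePred C] (f : N → ℕ)
    (a b : ℕ) (ha : ∀ n, C n → f n ≤ a) (hb : ∀ n, ¬ C n → f n ≤ b) :
    ∑ n, f n ≤ Fintype.card {n // C n} * a + (Fintype.card N - Fintype.card {n // C n}) * b := by
  classical
  rw [← Finset.sum_filter_add_sum_filter_not Finset.univ C f]
  have h1 : ∑ n ∈ Finset.univ.filter C, f n ≤ (Finset.univ.filter C).card * a := by
    have := Finset.sum_le_card_nsmul (Finset.univ.filter C) f a
      (fun n hn => ha n (Finset.mem_filter.mp hn).2)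
    simpa using this
  have h2 : ∑ n ∈ Finset.univ.filter (fun n => ¬ C n), f n
      ≤ (Finset.univ.filter (fun n => ¬ C n)).card * b := by
    have := Finset.sum_le_card_nsmul (Finset.univ.filter (fun n => ¬ C n)) f b
      (fun n hn => hb n (Finset.mem_filter.mp hn).2)
    simpa using this
  have h3 : (Finset.univ.filter C).card = Fintype.card {n // C n} :=
    (Fintype.card_subtype C).symm
  have h4 : (Finset.univ.filter C).card + (Finset.univ.filter (fun n => ¬ C n)).card
      = Fintype.card N := by
    rw [Finset.card_filter_add_card_filter_not, Finset.card_univ]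
  have h5 : (Finset.univ.filter (fun n => ¬ C n)).card
      = Fintype.card N - Fintype.card {n // C n} := by omega
  calc ∑ n ∈ Finset.univ.filter C, f n + ∑ n ∈ Finset.univ.filter (fun n => ¬ C n), f n
      ≤ (Finset.univ.filter C).card * a + (Finset.univ.filter (fun n => ¬ C n)).card * b :=
        Nat.add_le_add h1 h2
    _ = _ := by rw [h3, h5]

/-- If the number of conjugacy classes of `p`-elements of `G` exceeds `(p + 1) |P| / (2 p)`,
then the normalizer of a Sylow `p`-subgroup `P` centralizes `P`. -/
theorem normalizer_le_centralizer_of_kp_large {G : Type*} [Group G] [Finite G] {p : ℕ}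
    [Fact p.Prime] (P : Sylow p G)
    (h : (p + 1) * Nat.card ↥(P : Subgroup G) < 2 * p * Nat.card
      {c : ConjClasses G // ∀ x ∈ c.carrier, ∃ k : ℕ, orderOf x = p ^ k}) :
    Subgroup.normalizer ((P : Subgroup G) : Set G)
      ≤ Subgroup.centralizer ((P : Subgroup G) : Set G) := by
  classical
  by_contra hnc
  have hp : p.Prime := Fact.out
  letI : MulAction ↥(Subgroup.normalizer ((P : Subgroup G) : Set G)) ↥(P : Subgroup G) :=
    MulAction.compHom _ (normalizerConjHom (P : Subgroup G))
  have hsmul : ∀ (n : ↥(Subgroup.normalizer ((P : Subgroup G) : Set G)))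
      (x : ↥(P : Subgroup G)), ((n • x : ↥(P : Subgroup G)) : G) = n * x * (n : G)⁻¹ :=
    fun n x => rfl
  -- the elements of the normalizer centralizing `P`
  let C : Subgroup ↥(Subgroup.normalizer ((P : Subgroup G) : Set G)) :=
    (Subgroup.centralizer ((P : Subgroup G) : Set G)).subgroupOf
      (Subgroup.normalizer ((P : Subgroup G) : Set G))
  have hCmem : ∀ n : ↥(Subgroup.normalizer ((P : Subgroup G) : Set G)),
      n ∈ C ↔ (n : G) ∈ Subgroup.centralizer ((P : Subgroup G) : Set G) := fun n => Iff.rfl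
  have hC : C ≠ ⊤ := by
    intro hC
    apply hnc
    intro g hg
    have h1 : (⟨g, hg⟩ : ↥(Subgroup.normalizer ((P : Subgroup G) : Set G))) ∈ C := by
      rw [hC]
      exact Subgroup.mem_top _
    exact (hCmem _).mp h1
  have hC2 : 2 * Nat.card C ≤ Nat.card ↥(Subgroup.normalizer ((P : Subgroup G) : Set G)) := by
    have h1 := Subgroup.card_mul_index C
    have hne1 : C.index ≠ 1 := fun h => hC (Subgroup.index_eq_one.mp h)
    have hne0 : C.index ≠ 0 := Subgroup.index_ne_zero_of_finite
    have h2 : 2 ≤ C.index := by omega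
    calc 2 * Nat.card C = Nat.card C * 2 := by ring
      _ ≤ Nat.card C * C.index := Nat.mul_le_mul_left _ h2
      _ = _ := h1
  -- fixed points
  have hfixle : ∀ n : ↥(Subgroup.normalizer ((P : Subgroup G) : Set G)),
      Nat.card (MulAction.fixedBy ↥(P : Subgroup G) n) ≤ Nat.card ↥(P : Subgroup G) :=
    fun n => Nat.card_le_card_of_injective _ Subtype.val_injective
  have hfix2 : ∀ n : ↥(Subgroup.normalizer ((P : Subgroup G) : Set G)), n ∉ C →
      p * Nat.card (MulAction.fixedBy ↥(P : Subgroup G) n) ≤ Nat.card ↥(P : Subgroup G) := by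
    intro n hn
    let F : Subgroup ↥(P : Subgroup G) :=
      (Subgroup.centralizer ({(n : G)} : Set G)).subgroupOf (P : Subgroup G)
    have hFmem : ∀ x : ↥(P : Subgroup G), x ∈ F ↔ (x : G) * n = n * x := by
      intro x
      show (x : G) ∈ Subgroup.centralizer ({(n : G)} : Set G) ↔ _
      rw [Subgroup.mem_centralizer_iff]
      constructor
      · intro h1
        exact (h1 _ (Set.mem_singleton _)).symm
      · intro h1 y hy
        rw [Set.mem_singleton_iff] at hy
        rw [hy]
        exact h1.symm
    have hFset : (MulAction.fixedBy ↥(P : Subgroup G) n) = (F : Set ↥(P : Subgroup G)) := by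
      ext x
      rw [MulAction.mem_fixedBy, SetLike.mem_coe, hFmem]
      constructor
      · intro h1
        have h2 := congrArg Subtype.val h1
        rw [hsmul] at h2
        calc (x : G) * n = ((n : G) * x * (n : G)⁻¹) * n := by rw [h2]
          _ = n * x := by group
      · intro h1
        apply Subtype.ext
        rw [hsmul, ← h1]
        group
    have hFne : F ≠ ⊤ := by
      intro hF
      apply hn
      rw [hCmem, Subgroup.mem_centralizer_iff]
      intro y hy
      have h1 : (⟨y, hy⟩ : ↥(P : Subgroup G)) ∈ F := by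
        rw [hF]
        exact Subgroup.mem_top _
      exact (hFmem _).mp h1
    obtain ⟨k, hk⟩ := P.isPGroup'.index F
    have hk0 : k ≠ 0 := by
      intro h0
      rw [h0, pow_zero] at hk
      exact hFne (Subgroup.index_eq_one.mp hk)
    have h1 := Subgroup.card_mul_index F
    have h2 : p ≤ F.index := by
      rw [hk]
      calc p = p ^ 1 := (pow_one p).symm
        _ ≤ p ^ k := Nat.pow_le_pow_right hp.pos (by omega)
    have h3 : Nat.card (MulAction.fixedBy ↥(P : Subgroup G) n) = Nat.card F := by
      rw [hFset]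
      rfl
    rw [h3, ← h1, mul_comm]
    exact Nat.mul_le_mul_left _ h2
  -- Burnside's lemma
  haveI : Fintype ↥(Subgroup.normalizer ((P : Subgroup G) : Set G)) := Fintype.ofFinite _
  haveI : ∀ n : ↥(Subgroup.normalizer ((P : Subgroup G) : Set G)),
      Fintype (MulAction.fixedBy ↥(P : Subgroup G) n) := fun n => Fintype.ofFinite _
  haveI : Fintype (MulAction.orbitRel.Quotient
      ↥(Subgroup.normalizer ((P : Subgroup G) : Set G)) ↥(P : Subgroup G)) := Fintype.ofFinite _
  have hB := MulAction.sum_card_fixedBy_eq_card_orbits_mul_card_group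
    ↥(Subgroup.normalizer ((P : Subgroup G) : Set G)) ↥(P : Subgroup G)
  -- bound the sum
  have hsum : ∑ n : ↥(Subgroup.normalizer ((P : Subgroup G) : Set G)),
      p * Fintype.card (MulAction.fixedBy ↥(P : Subgroup G) n)
      ≤ Fintype.card {n : ↥(Subgroup.normalizer ((P : Subgroup G) : Set G)) // n ∈ C}
          * (p * Nat.card ↥(P : Subgroup G))
        + (Fintype.card ↥(Subgroup.normalizer ((P : Subgroup G) : Set G))
          - Fintype.card {n : ↥(Subgroup.normalizer ((P : Subgroup G) : Set G)) // n ∈ C})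
          * Nat.card ↥(P : Subgroup G) := by
    apply sum_le_of_split (fun n => n ∈ C)
    · intro n _
      rw [← Nat.card_eq_fintype_card]
      exact Nat.mul_le_mul_left _ (hfixle n)
    · intro n hn
      rw [← Nat.card_eq_fintype_card]
      exact hfix2 n hn
  rw [← Finset.mul_sum, hB] at hsum
  have hcC : Fintype.card {n : ↥(Subgroup.normalizer ((P : Subgroup G) : Set G)) // n ∈ C}
      = Nat.card C := by
    rw [← Nat.card_eq_fintype_card]
  rw [hcC, ← Nat.card_eq_fintype_card, ← Nat.card_eq_fintype_card] at hsum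
  -- the classes of `p`-elements inject into the orbits
  have hrep : ∀ c : {c : ConjClasses G // ∀ x ∈ c.carrier, ∃ k : ℕ, orderOf x = p ^ k},
      ∃ x : ↥(P : Subgroup G), ConjClasses.mk (x : G) = c.1 := by
    rintro ⟨c, hc⟩
    obtain ⟨g, rfl⟩ := ConjClasses.mk_surjective c
    obtain ⟨k, hk⟩ := hc g ConjClasses.mem_carrier_mk
    obtain ⟨a, ha⟩ := exists_conj_mem_sylow P g k hk
    refine ⟨⟨a * g * a⁻¹, ha⟩, ?_⟩
    show ConjClasses.mk (a * g * a⁻¹) = ConjClasses.mk g
    rw [ConjClasses.mk_eq_mk_iff_isConj, isConj_comm, isConj_iff]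
    exact ⟨a, rfl⟩
  choose rep hrep' using hrep
  have hinj : Function.Injective
      (fun c : {c : ConjClasses G // ∀ x ∈ c.carrier, ∃ k : ℕ, orderOf x = p ^ k} =>
        (Quotient.mk'' (rep c) : MulAction.orbitRel.Quotient
          ↥(Subgroup.normalizer ((P : Subgroup G) : Set G)) ↥(P : Subgroup G))) := by
    intro c d hcd
    have h1 : rep c ∈ MulAction.orbit ↥(Subgroup.normalizer ((P : Subgroup G) : Set G))
        (rep d) := Quotient.exact' hcd
    obtain ⟨n, hn⟩ := h1
    apply Subtype.ext
    rw [← hrep' c, ← hrep' d, ConjClasses.mk_eq_mk_iff_isConj, isConj_comm, isConj_iff]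
    refine ⟨(n : G), ?_⟩
    have h2 := congrArg Subtype.val hn
    exact h2
  have hle := Nat.card_le_card_of_injective _ hinj
  -- arithmetic
  set k := Nat.card {c : ConjClasses G // ∀ x ∈ c.carrier, ∃ k : ℕ, orderOf x = p ^ k} with hkdef
  set o := Nat.card (MulAction.orbitRel.Quotient
      ↥(Subgroup.normalizer ((P : Subgroup G) : Set G)) ↥(P : Subgroup G)) with hodef
  set nN := Nat.card ↥(Subgroup.normalizer ((P : Subgroup G) : Set G)) with hnNdef
  set nC := Nat.card C with hnCdef
  set nP := Nat.card ↥(P : Subgroup G) with hnPdef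
  have hnNpos : 0 < nN := Nat.card_pos
  have hCle : nC ≤ nN := by omega
  have h1 : 2 * (p * (o * nN)) ≤ (p + 1) * nP * nN := by
    have h2 : 2 * (nC * (p * nP) + (nN - nC) * nP) ≤ (p + 1) * nP * nN := by
      obtain ⟨d, hd⟩ := Nat.exists_eq_add_of_le hC2
      have h3 : nN - nC = nC + d := by omega
      rw [h3, hd]
      have hp1 : 1 ≤ p := hp.pos
      obtain ⟨q, rfl⟩ := Nat.exists_eq_add_of_le hp1
      nlinarith [Nat.zero_le (q * nP * d), Nat.zero_le (nP * d)]
    calc 2 * (p * (o * nN)) ≤ 2 * (nC * (p * nP) + (nN - nC) * nP) :=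
          Nat.mul_le_mul_left _ hsum
      _ ≤ _ := h2
  have h4 : 2 * p * o ≤ (p + 1) * nP := by
    have h5 : (2 * p * o) * nN ≤ ((p + 1) * nP) * nN := by
      calc (2 * p * o) * nN = 2 * (p * (o * nN)) := by ring
        _ ≤ _ := h1
    exact Nat.le_of_mul_le_mul_right h5 hnNpos
  have h6 : 2 * p * k ≤ 2 * p * o := Nat.mul_le_mul_left _ hle
  omega

end Cfsg.Agent.Lib.Helper22
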