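import Mathlib
import Cfsg.Agent.Lib.Helper22.KP

/-!
Helper lemmas (helper22): counting conjugacy classes of `π`-elements by peeling off one prime.
-/

namespace Cfsg.Agent.Lib.Helper22

/-- Conjugate elements have the same order. -/
theorem orderOf_eq_of_isConj {G : Type*} [Group G] {a b : G} (h : IsConj a b) :
    orderOf a = orderOf b := by
  obtain ⟨c, hc⟩ := isConj_iff.mp h
  rw [← hc]
  exact ((MulAut.conj c).orderOf_eq a).symm

/-- Splitting an element into commuting `r`-part and `r'`-part. -/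
theorem exists_split {G : Type*} [Group G] [Finite G] (g : G) (r : ℕ) (hr : r.Prime) :
    ∃ x y : G, x * y = g ∧ Commute x y ∧ (∃ k : ℕ, orderOf x = r ^ k) ∧
      orderOf y ∣ orderOf g ∧ ¬ r ∣ orderOf y := by
  have hn : orderOf g ≠ 0 := (orderOf_pos g).ne'
  obtain ⟨e, n', hn', hne⟩ := Nat.exists_eq_pow_mul_and_not_dvd hn r hr.ne_one
  have hcop : Nat.Coprime n' (r ^ e) :=
    Nat.Coprime.pow_right _ ((Nat.Prime.coprime_iff_not_dvd hr).mpr hn').symm
  obtain ⟨u, v, huv⟩ := (Nat.isCoprime_iff_coprime.mpr hcop)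
  have hx : (g ^ ((n' : ℤ) * u)) ^ (r ^ e) = 1 := by
    rw [← zpow_natCast, ← zpow_mul]
    have e1 : (n' : ℤ) * u * ((r ^ e : ℕ) : ℤ) = ((r ^ e * n' : ℕ) : ℤ) * u := by
      push_cast
      ring
    rw [e1, zpow_mul, zpow_natCast, ← hne, pow_orderOf_eq_one, one_zpow]
  have hy : (g ^ (((r ^ e : ℕ) : ℤ) * v)) ^ n' = 1 := by
    rw [← zpow_natCast, ← zpow_mul]
    have e1 : ((r ^ e : ℕ) : ℤ) * v * (n' : ℤ) = ((r ^ e * n' : ℕ) : ℤ) * v := by
      push_cast
      ring
    rw [e1, zpow_mul, zpow_natCast, ← hne, pow_orderOf_eq_one, one_zpow]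
  refine ⟨g ^ ((n' : ℤ) * u), g ^ (((r ^ e : ℕ) : ℤ) * v), ?_, ?_, ?_, ?_, ?_⟩
  · rw [← zpow_add, mul_comm (n' : ℤ) u, mul_comm ((r ^ e : ℕ) : ℤ) v, huv, zpow_one]
  · exact Commute.zpow_zpow_self g _ _
  · obtain ⟨k, -, hk⟩ := (Nat.dvd_prime_pow hr).mp (orderOf_dvd_of_pow_eq_one hx)
    exact ⟨k, hk⟩
  · have h1 : orderOf (g ^ (((r ^ e : ℕ) : ℤ) * v)) ∣ n' := orderOf_dvd_of_pow_eq_one hy
    exact h1.trans (by rw [hne]; exact dvd_mul_left _ _)
  · intro hdvd
    exact hn' (hdvd.trans (orderOf_dvd_of_pow_eq_one hy))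

/-- The number of classes of `p`-elements is at most the order of a Sylow `p`-subgroup. -/
theorem card_pClasses_le {G : Type*} [Group G] [Finite G] {p : ℕ} [Fact p.Prime]
    (P : Sylow p G) :
    Nat.card {c : ConjClasses G // ∀ x ∈ c.carrier, ∃ k : ℕ, orderOf x = p ^ k}
      ≤ Nat.card ↥(P : Subgroup G) := by
  have hrep : ∀ c : {c : ConjClasses G // ∀ x ∈ c.carrier, ∃ k : ℕ, orderOf x = p ^ k},
      ∃ x : ↥(P : Subgroup G), ConjClasses.mk (x : G) = c.1 := by
    rintro ⟨c, hc⟩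
    obtain ⟨g, rfl⟩ := ConjClasses.mk_surjective c
    obtain ⟨k, hk⟩ := hc g ConjClasses.mem_carrier_mk
    obtain ⟨a, ha⟩ := exists_conj_mem_sylow P g k hk
    refine ⟨⟨a * g * a⁻¹, ha⟩, ?_⟩
    show ConjClasses.mk (a * g * a⁻¹) = ConjClasses.mk g
    rw [ConjClasses.mk_eq_mk_iff_isConj, isConj_comm, isConj_iff]
    exact ⟨a, rfl⟩
  choose rep hrep' using hrep
  apply Nat.card_le_card_of_injective rep
  intro c d hcd
  apply Subtype.ext
  rw [← hrep' c, ← hrep' d, hcd]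

/-- Only the identity class consists of elements whose order has no prime divisor. -/
theorem card_piClasses_empty {G : Type*} [Group G] [Finite G] :
    Nat.card {c : ConjClasses G // ∀ x ∈ c.carrier, ∀ q : ℕ, q.Prime → q ∣ orderOf x →
      q ∈ (∅ : Finset ℕ)} ≤ 1 := by
  have hone : ∀ c : {c : ConjClasses G // ∀ x ∈ c.carrier, ∀ q : ℕ, q.Prime → q ∣ orderOf x →
      q ∈ (∅ : Finset ℕ)}, c.1 = ConjClasses.mk 1 := by
    rintro ⟨c, hc⟩
    obtain ⟨g, rfl⟩ := ConjClasses.mk_surjective c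
    have h1 : orderOf g = 1 := by
      by_contra hne
      obtain ⟨q, hq, hqd⟩ := Nat.exists_prime_and_dvd hne
      exact absurd (hc g ConjClasses.mem_carrier_mk q hq hqd) (Finset.notMem_empty q)
    rw [orderOf_eq_one_iff] at h1
    show ConjClasses.mk g = ConjClasses.mk 1
    rw [h1]
  haveI : Subsingleton {c : ConjClasses G // ∀ x ∈ c.carrier, ∀ q : ℕ, q.Prime →
      q ∣ orderOf x → q ∈ (∅ : Finset ℕ)} :=
    ⟨fun c d => Subtype.ext ((hone c).trans (hone d).symm)⟩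
  exact Finite.card_le_one_iff_subsingleton.mpr inferInstance

/-- Peeling off a prime: the classes of `(σ ∪ {r})`-elements are covered by the classes of
`σ`-elements in the centralizers of representatives of the classes of `r`-elements. -/
theorem card_piClasses_insert_le {G : Type*} [Group G] [Finite G] (σ : Finset ℕ) (r : ℕ)
    (hr : r.Prime) (B : ℕ)
    (hB : ∀ H : Subgroup G, Nat.card {c : ConjClasses ↥H // ∀ x ∈ c.carrier, ∀ q : ℕ,
      q.Prime → q ∣ orderOf x → q ∈ σ} ≤ B) :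
    Nat.card {c : ConjClasses G // ∀ x ∈ c.carrier, ∀ q : ℕ, q.Prime → q ∣ orderOf x →
      q ∈ insert r σ}
      ≤ Nat.card {c : ConjClasses G // ∀ x ∈ c.carrier, ∃ k : ℕ, orderOf x = r ^ k} * B := by
  classical
  -- representatives of the classes of `r`-elements
  have hrep : ∀ c : {c : ConjClasses G // ∀ x ∈ c.carrier, ∃ k : ℕ, orderOf x = r ^ k},
      ∃ x : G, ConjClasses.mk x = c.1 := fun c => ConjClasses.mk_surjective c.1
  choose rep hrep' using hrep
  have hrepord : ∀ c : {c : ConjClasses G // ∀ x ∈ c.carrier, ∃ k : ℕ, orderOf x = r ^ k},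
      ∃ k : ℕ, orderOf (rep c) = r ^ k := by
    intro c
    apply c.2
    rw [ConjClasses.mem_carrier_iff_mk_eq]
    exact hrep' c
  -- representatives of the classes of `σ`-elements of the centralizers
  have hrep2 : ∀ (c : {c : ConjClasses G // ∀ x ∈ c.carrier, ∃ k : ℕ, orderOf x = r ^ k})
      (d : {d : ConjClasses ↥(Subgroup.centralizer ({rep c} : Set G)) // ∀ x ∈ d.carrier,
        ∀ q : ℕ, q.Prime → q ∣ orderOf x → q ∈ σ}),
      ∃ y : ↥(Subgroup.centralizer ({rep c} : Set G)), ConjClasses.mk y = d.1 :=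
    fun c d => ConjClasses.mk_surjective d.1
  choose rep2 hrep2' using hrep2
  have hrep2ord : ∀ (c : {c : ConjClasses G // ∀ x ∈ c.carrier, ∃ k : ℕ, orderOf x = r ^ k})
      (d : {d : ConjClasses ↥(Subgroup.centralizer ({rep c} : Set G)) // ∀ x ∈ d.carrier,
        ∀ q : ℕ, q.Prime → q ∣ orderOf x → q ∈ σ}),
      ∀ q : ℕ, q.Prime → q ∣ orderOf (rep2 c d) → q ∈ σ := by
    intro c d
    apply d.2
    rw [ConjClasses.mem_carrier_iff_mk_eq]
    exact hrep2' c d
  have hcomm : ∀ (c : {c : ConjClasses G // ∀ x ∈ c.carrier, ∃ k : ℕ, orderOf x = r ^ k})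
      (y : ↥(Subgroup.centralizer ({rep c} : Set G))), Commute (rep c) (y : G) := by
    intro c y
    have h1 := y.2
    rw [Subgroup.mem_centralizer_iff] at h1
    exact h1 _ (Set.mem_singleton _)
  -- the covering map
  have hΦ : ∀ (s : Σ c : {c : ConjClasses G // ∀ x ∈ c.carrier, ∃ k : ℕ, orderOf x = r ^ k},
        {d : ConjClasses ↥(Subgroup.centralizer ({rep c} : Set G)) // ∀ x ∈ d.carrier,
          ∀ q : ℕ, q.Prime → q ∣ orderOf x → q ∈ σ}),
      ∀ x ∈ (ConjClasses.mk (rep s.1 * (rep2 s.1 s.2 : G))).carrier, ∀ q : ℕ, q.Prime →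
        q ∣ orderOf x → q ∈ insert r σ := by
    rintro ⟨c, d⟩ x hx q hq hqd
    rw [ConjClasses.mem_carrier_iff_mk_eq, ConjClasses.mk_eq_mk_iff_isConj] at hx
    rw [orderOf_eq_of_isConj hx] at hqd
    have h1 := hqd.trans (hcomm c (rep2 c d)).orderOf_mul_dvd_mul_orderOf
    rcases (Nat.Prime.dvd_mul hq).mp h1 with h2 | h2
    · obtain ⟨k, hk⟩ := hrepord c
      rw [hk] at h2
      have h3 := (Nat.prime_dvd_prime_iff_eq hq hr).mp (hq.dvd_of_dvd_pow h2)
      rw [h3]
      exact Finset.mem_insert_self r σ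
    · rw [Subgroup.orderOf_coe] at h2
      exact Finset.mem_insert_of_mem (hrep2ord c d q hq h2)
  have hsurj : Function.Surjective
      (fun s : (Σ c : {c : ConjClasses G // ∀ x ∈ c.carrier, ∃ k : ℕ, orderOf x = r ^ k},
        {d : ConjClasses ↥(Subgroup.centralizer ({rep c} : Set G)) // ∀ x ∈ d.carrier,
          ∀ q : ℕ, q.Prime → q ∣ orderOf x → q ∈ σ}) =>
        (⟨ConjClasses.mk (rep s.1 * (rep2 s.1 s.2 : G)), hΦ s⟩ :
          {c : ConjClasses G // ∀ x ∈ c.carrier, ∀ q : ℕ, q.Prime → q ∣ orderOf x →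
            q ∈ insert r σ})) := by
    rintro ⟨e, he⟩
    obtain ⟨g, rfl⟩ := ConjClasses.mk_surjective e
    obtain ⟨gr, gs, hg, hcm, ⟨k, hk⟩, hsdvd, hsr⟩ := exists_split g r hr
    -- the class of the `r`-part
    have hc : ∀ x ∈ (ConjClasses.mk gr).carrier, ∃ k : ℕ, orderOf x = r ^ k := by
      intro x hx
      rw [ConjClasses.mem_carrier_iff_mk_eq, ConjClasses.mk_eq_mk_iff_isConj] at hx
      exact ⟨k, by rw [orderOf_eq_of_isConj hx, hk]⟩
    obtain ⟨a, ha⟩ : ∃ a : G, a * gr * a⁻¹ = rep ⟨ConjClasses.mk gr, hc⟩ := by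
      have h1 := hrep' ⟨ConjClasses.mk gr, hc⟩
      have h2 : IsConj gr (rep ⟨ConjClasses.mk gr, hc⟩) :=
        (ConjClasses.mk_eq_mk_iff_isConj.mp h1).symm
      exact isConj_iff.mp h2
    have hy₀ : a * gs * a⁻¹ ∈ Subgroup.centralizer ({rep ⟨ConjClasses.mk gr, hc⟩} : Set G) := by
      rw [Subgroup.mem_centralizer_iff]
      intro h hh
      rw [Set.mem_singleton_iff] at hh
      rw [hh, ← ha]
      have e1 : a * gr * a⁻¹ * (a * gs * a⁻¹) = a * (gr * gs) * a⁻¹ := by group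
      have e2 : a * gs * a⁻¹ * (a * gr * a⁻¹) = a * (gs * gr) * a⁻¹ := by group
      rw [e1, e2, hcm.eq]
    have hd : ∀ x ∈ (ConjClasses.mk (⟨a * gs * a⁻¹, hy₀⟩ :
        ↥(Subgroup.centralizer ({rep ⟨ConjClasses.mk gr, hc⟩} : Set G)))).carrier,
        ∀ q : ℕ, q.Prime → q ∣ orderOf x → q ∈ σ := by
      intro x hx q hq hqd
      rw [ConjClasses.mem_carrier_iff_mk_eq, ConjClasses.mk_eq_mk_iff_isConj] at hx
      rw [orderOf_eq_of_isConj hx, Subgroup.orderOf_mk] at hqd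
      have h1 : orderOf (a * gs * a⁻¹) = orderOf gs := (MulAut.conj a).orderOf_eq gs
      rw [h1] at hqd
      have h2 := he g ConjClasses.mem_carrier_mk q hq (hqd.trans hsdvd)
      rcases Finset.mem_insert.mp h2 with h3 | h3
      · exfalso
        rw [h3] at hqd
        exact hsr hqd
      · exact h3
    obtain ⟨b, hb⟩ : ∃ b : ↥(Subgroup.centralizer ({rep ⟨ConjClasses.mk gr, hc⟩} : Set G)),
        b * ⟨a * gs * a⁻¹, hy₀⟩ * b⁻¹
          = rep2 ⟨ConjClasses.mk gr, hc⟩ ⟨ConjClasses.mk ⟨a * gs * a⁻¹, hy₀⟩, hd⟩ := by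
      have h1 := hrep2' ⟨ConjClasses.mk gr, hc⟩ ⟨ConjClasses.mk ⟨a * gs * a⁻¹, hy₀⟩, hd⟩
      have h2 := (ConjClasses.mk_eq_mk_iff_isConj.mp h1).symm
      exact isConj_iff.mp h2
    refine ⟨⟨⟨ConjClasses.mk gr, hc⟩, ⟨ConjClasses.mk ⟨a * gs * a⁻¹, hy₀⟩, hd⟩⟩, ?_⟩
    apply Subtype.ext
    show ConjClasses.mk (rep ⟨ConjClasses.mk gr, hc⟩ *
      (rep2 ⟨ConjClasses.mk gr, hc⟩ ⟨ConjClasses.mk ⟨a * gs * a⁻¹, hy₀⟩, hd⟩ : G))
      = ConjClasses.mk g
    rw [ConjClasses.mk_eq_mk_iff_isConj, isConj_comm, isConj_iff]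
    refine ⟨(b : G) * a, ?_⟩
    have hb' : (b : G) * (a * gs * a⁻¹) * (b : G)⁻¹
        = (rep2 ⟨ConjClasses.mk gr, hc⟩ ⟨ConjClasses.mk ⟨a * gs * a⁻¹, hy₀⟩, hd⟩ : G) := by
      have := congrArg Subtype.val hb
      exact this
    have hbc : (b : G) * (a * gr * a⁻¹) * (b : G)⁻¹ = a * gr * a⁻¹ := by
      have h1 := hcomm ⟨ConjClasses.mk gr, hc⟩ b
      rw [ha, ← h1.eq, mul_inv_cancel_right]
    calc (b : G) * a * g * ((b : G) * a)⁻¹
        = ((b : G) * (a * gr * a⁻¹) * (b : G)⁻¹) * ((b : G) * (a * gs * a⁻¹) * (b : G)⁻¹) := by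
          rw [← hg]
          group
      _ = (a * gr * a⁻¹) * ((b : G) * (a * gs * a⁻¹) * (b : G)⁻¹) := by rw [hbc]
      _ = _ := by rw [hb', ha]
  have h1 := Nat.card_le_card_of_surjective _ hsurj
  haveI : Fintype {c : ConjClasses G // ∀ x ∈ c.carrier, ∃ k : ℕ, orderOf x = r ^ k} :=
    Fintype.ofFinite _
  rw [Nat.card_sigma] at h1
  refine h1.trans ?_
  have h2 := Finset.sum_le_card_nsmul (Finset.univ :
      Finset {c : ConjClasses G // ∀ x ∈ c.carrier, ∃ k : ℕ, orderOf x = r ^ k})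
    (fun c => Nat.card {d : ConjClasses ↥(Subgroup.centralizer ({rep c} : Set G)) //
      ∀ x ∈ d.carrier, ∀ q : ℕ, q.Prime → q ∣ orderOf x → q ∈ σ}) B
    (fun c _ => hB _)
  rw [Finset.card_univ, smul_eq_mul, ← Nat.card_eq_fintype_card] at h2
  exact h2

/-- The number of classes of `σ`-elements is at most the `σ`-part of the group order. -/
theorem card_piClasses_le.{u} (σ : Finset ℕ) :
    (∀ r ∈ σ, r.Prime) → ∀ (G : Type u) [Group G] [Finite G],
      Nat.card {c : ConjClasses G // ∀ x ∈ c.carrier, ∀ q : ℕ, q.Prime → q ∣ orderOf x →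
        q ∈ σ} ≤ σ.prod (fun r => r ^ (Nat.card G).factorization r) := by
  classical
  induction σ using Finset.induction_on with
  | empty =>
    intro _ G _ _
    rw [Finset.prod_empty]
    exact card_piClasses_empty
  | insert r σ hrσ ih =>
    intro hprime G _ _
    have hr : r.Prime := hprime r (Finset.mem_insert_self r σ)
    haveI : Fact r.Prime := ⟨hr⟩
    have hσ : ∀ q ∈ σ, q.Prime := fun q hq => hprime q (Finset.mem_insert_of_mem hq)
    have hB : ∀ H : Subgroup G, Nat.card {c : ConjClasses ↥H // ∀ x ∈ c.carrier, ∀ q : ℕ,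
        q.Prime → q ∣ orderOf x → q ∈ σ} ≤ σ.prod (fun q => q ^ (Nat.card G).factorization q) := by
      intro H
      refine (ih hσ ↥H).trans ?_
      apply Finset.prod_le_prod
      · intro q _
        exact Nat.zero_le _
      · intro q hq
        apply Nat.pow_le_pow_right (hσ q hq).pos
        exact (Nat.factorization_le_iff_dvd Nat.card_pos.ne' Nat.card_pos.ne').mpr
          (Subgroup.card_subgroup_dvd_card H) q
    have h1 := card_piClasses_insert_le σ r hr _ hB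
    have h2 := card_pClasses_le (Classical.arbitrary (Sylow r G))
    rw [Sylow.card_eq_multiplicity] at h2
    rw [Finset.prod_insert hrσ]
    exact h1.trans (Nat.mul_le_mul_right _ h2)

/-- The number of classes of `σ`-elements of a subgroup is at most the `σ`-part of the order
of the whole group. -/
theorem card_piClasses_subgroup_le {G : Type*} [Group G] [Finite G] (σ : Finset ℕ)
    (hσ : ∀ r ∈ σ, r.Prime) (H : Subgroup G) :
    Nat.card {c : ConjClasses ↥H // ∀ x ∈ c.carrier, ∀ q : ℕ, q.Prime → q ∣ orderOf x →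
      q ∈ σ} ≤ σ.prod (fun q => q ^ (Nat.card G).factorization q) := by
  refine (card_piClasses_le σ hσ ↥H).trans ?_
  apply Finset.prod_le_prod
  · intro q _
    exact Nat.zero_le _
  · intro q hq
    apply Nat.pow_le_pow_right (hσ q hq).pos
    exact (Nat.factorization_le_iff_dvd Nat.card_pos.ne' Nat.card_pos.ne').mpr
      (Subgroup.card_subgroup_dvd_card H) q

end Cfsg.Agent.Lib.Helper22
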