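import Mathlib

/-!
Helper lemmas (helper22): small facts used for minimal non-`p`-closed groups.
-/

namespace Cfsg.Agent.Lib.Helper22

/-- A subgroup normalised (one inclusion suffices in a finite group) by two subgroups
generating the whole group is normal. -/
theorem normal_of_sup_eq_top_of_conj_mem {G : Type*} [Group G] [Finite G] (B H K : Subgroup G)
    (hHK : H ⊔ K = ⊤) (hH : ∀ h ∈ H, ∀ b ∈ B, h * b * h⁻¹ ∈ B)
    (hK : ∀ k ∈ K, ∀ b ∈ B, k * b * k⁻¹ ∈ B) : B.Normal := by
  rw [← Subgroup.normalizer_eq_top_iff, eq_top_iff, ← hHK]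
  apply sup_le
  · intro h hh
    exact Subgroup.mem_normalizer_fintype (S := (B : Set G)) (fun n hn => hH h hh n hn)
  · intro k hk
    exact Subgroup.mem_normalizer_fintype (S := (B : Set G)) (fun n hn => hK k hk n hn)

/-- A subgroup of prime index is maximal. -/
theorem sup_eq_top_of_index_prime {G : Type*} [Group G] (A K : Subgroup G) {p : ℕ}
    (hp : p.Prime) (hidx : A.index = p) (hK : ¬ K ≤ A) : K ⊔ A = ⊤ := by
  have h1 : (K ⊔ A).index ∣ p := hidx ▸ Subgroup.index_dvd_of_le le_sup_right
  rcases (Nat.dvd_prime hp).mp h1 with h2 | h2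
  · exact Subgroup.index_eq_one.mp h2
  · exfalso
    apply hK
    have h3 := Subgroup.relIndex_mul_index (le_sup_right : A ≤ K ⊔ A)
    rw [h2, hidx] at h3
    have h4 : A.relIndex (K ⊔ A) = 1 := by
      have h5 := hp.pos
      have h6 : A.relIndex (K ⊔ A) * p = 1 * p := by rw [h3, one_mul]
      exact Nat.eq_of_mul_eq_mul_right h5 h6
    exact le_sup_left.trans (Subgroup.relIndex_eq_one.mp h4)

/-- In a commutative group every subgroup is normal. -/
theorem normal_of_forall_comm {H : Type*} [Group H] (hc : ∀ a b : H, a * b = b * a)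
    (P : Subgroup H) : P.Normal :=
  ⟨fun n hn g => by rw [hc g n, mul_inv_cancel_right]; exact hn⟩

end Cfsg.Agent.Lib.Helper22
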