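import Mathlib
import Cfsg.Agent.Lib.Helper1.SZ

set_option autoImplicit false

open Pointwise

namespace Cfsg.Agent.Lib.Helper22.SO

open Cfsg.Agent.Lib.Helper1

universe u

section Basic

variable {G : Type*} [Group G]

theorem mem_conjMap {H : Subgroup G} {g x : G} :
    x ∈ H.map (MulAut.conj g).toMonoidHom ↔ g⁻¹ * x * g ∈ H := by
  constructor
  · rintro ⟨y, hy, rfl⟩
    have h1 : g⁻¹ * ((MulAut.conj g).toMonoidHom y) * g = y := by
      show g⁻¹ * (g * y * g⁻¹) * g = y
      group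
    rw [h1]
    exact hy
  · intro h
    refine ⟨g⁻¹ * x * g, h, ?_⟩
    show g * (g⁻¹ * x * g) * g⁻¹ = x
    group

theorem conjMap_conjMap (H : Subgroup G) (a b : G) :
    (H.map (MulAut.conj a).toMonoidHom).map (MulAut.conj b).toMonoidHom =
      H.map (MulAut.conj (b * a)).toMonoidHom := by
  ext x
  rw [mem_conjMap, mem_conjMap, mem_conjMap]
  have h1 : a⁻¹ * (b⁻¹ * x * b) * a = (b * a)⁻¹ * x * (b * a) := by group
  rw [h1]

theorem conjMap_one (H : Subgroup G) : H.map (MulAut.conj (1 : G)).toMonoidHom = H := by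
  ext x
  rw [mem_conjMap, inv_one, one_mul, mul_one]

theorem card_conjMap (H : Subgroup G) (g : G) :
    Nat.card (H.map (MulAut.conj g).toMonoidHom) = Nat.card H :=
  Subgroup.card_map_of_injective (MulAut.conj g).injective

theorem smul_eq_conjMap (H : Subgroup G) (g : G) :
    MulAut.conj g • H = H.map (MulAut.conj g).toMonoidHom := rfl

theorem conjMap_of_mem_normalizer {D : Subgroup G} {g : G}
    (hg : g ∈ Subgroup.normalizer (D : Set G)) : D.map (MulAut.conj g).toMonoidHom = D := by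
  ext x
  rw [mem_conjMap]
  have h1 := (Subgroup.mem_normalizer_iff.mp hg) (g⁻¹ * x * g)
  have h2 : g * (g⁻¹ * x * g) * g⁻¹ = x := by group
  rw [h2] at h1
  exact h1

theorem conjMap_le_normalizer_conjMap {T D : Subgroup G}
    (h : T ≤ Subgroup.normalizer (D : Set G)) (g : G) :
    T.map (MulAut.conj g).toMonoidHom ≤
      Subgroup.normalizer ((D.map (MulAut.conj g).toMonoidHom : Subgroup G) : Set G) := by
  intro x hx
  rw [mem_conjMap] at hx
  have h1 := Subgroup.mem_normalizer_iff.mp (h hx)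
  rw [Subgroup.mem_normalizer_iff]
  intro y
  rw [mem_conjMap, mem_conjMap, h1 (g⁻¹ * y * g)]
  have h2 : g⁻¹ * x * g * (g⁻¹ * y * g) * (g⁻¹ * x * g)⁻¹ = g⁻¹ * (x * y * x⁻¹) * g := by group
  rw [h2]

theorem map_conjMap {G' : Type*} [Group G'] (f : G →* G') (A : Subgroup G) (g : G) :
    (A.map (MulAut.conj g).toMonoidHom).map f =
      (A.map f).map (MulAut.conj (f g)).toMonoidHom := by
  rw [Subgroup.map_map, Subgroup.map_map]
  congr 1
  ext x
  show f (g * x * g⁻¹) = f g * f x * (f g)⁻¹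
  rw [map_mul, map_mul, map_inv]

/-- In a finite cyclic group, two subgroups of the same order coincide. -/
theorem eq_of_card_eq_of_isCyclic {C : Type*} [Group C] [Finite C] [IsCyclic C] (U V : Subgroup C)
    (h : Nat.card U = Nat.card V) : U = V := by
  classical
  haveI := Fintype.ofFinite C
  have key : ∀ W : Subgroup C, (W : Set C) = {a : C | a ^ Nat.card W = 1} := by
    intro W
    have hpos : 0 < Nat.card W := Nat.card_pos
    have h1 : (W : Set C) ⊆ {a : C | a ^ Nat.card W = 1} := by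
      intro a ha
      have h2 : (⟨a, ha⟩ : W) ^ Nat.card W = 1 := pow_card_eq_one'
      exact congrArg Subtype.val h2
    have hW : (W : Set C).ncard = Nat.card W := (Nat.card_coe_set_eq (W : Set C)).symm
    have h3 : ({a : C | a ^ Nat.card W = 1} : Set C).ncard ≤ (W : Set C).ncard := by
      rw [hW]
      have h4 := IsCyclic.card_pow_eq_one_le (α := C) hpos
      rw [← Set.ncard_coe_finset] at h4
      convert h4 using 2
      ext a
      simp
    exact Set.eq_of_subset_of_ncard_le h1 h3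
  apply SetLike.coe_injective
  rw [key U, key V, h]

theorem card_sup_mul_card_inf [Finite G] (H N : Subgroup G) [N.Normal] :
    Nat.card ↥(H ⊔ N) * Nat.card ↥(H ⊓ N) = Nat.card N * Nat.card H := by
  have h1 : Nat.card N * N.relIndex (H ⊔ N) = Nat.card ↥(H ⊔ N) := by
    have := Subgroup.relIndex_mul_relIndex ⊥ N (H ⊔ N) bot_le le_sup_right
    rwa [Subgroup.relIndex_bot_left, Subgroup.relIndex_bot_left] at this
  have h2 : Nat.card ↥(H ⊓ N) * (H ⊓ N).relIndex H = Nat.card H := by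
    have := Subgroup.relIndex_mul_relIndex ⊥ (H ⊓ N) H bot_le inf_le_left
    rwa [Subgroup.relIndex_bot_left, Subgroup.relIndex_bot_left] at this
  rw [Subgroup.relIndex_sup_right] at h1
  rw [Subgroup.inf_relIndex_left] at h2
  rw [← h1, ← h2]
  ring

/-- In a finite group all of whose Sylow subgroups are cyclic, `q`-subgroups of the same order are
conjugate. -/
theorem pconj_of_sylow_cyclic {X : Type*} [Group X] [Finite X]
    (hc : ∀ q : ℕ, q.Prime → ∀ P : Sylow q X, IsCyclic P) (q : ℕ) (hq : q.Prime)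
    (U V : Subgroup X) (hU : IsPGroup q U) (hV : IsPGroup q V) (h : Nat.card U = Nat.card V) :
    ∃ g : X, V = U.map (MulAut.conj g).toMonoidHom := by
  haveI := Fact.mk hq
  obtain ⟨P, hUP⟩ := hU.exists_le_sylow
  obtain ⟨P', hVP'⟩ := hV.exists_le_sylow
  obtain ⟨g, hg⟩ := MulAction.exists_smul_eq X P P'
  have hUg : U.map (MulAut.conj g).toMonoidHom ≤ (P' : Subgroup X) := by
    rw [← hg, Sylow.smul_def, Sylow.pointwise_smul_def, smul_eq_conjMap]
    exact Subgroup.map_mono hUP
  haveI := hc q hq P'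
  have h1 : Nat.card ((U.map (MulAut.conj g).toMonoidHom).subgroupOf (P' : Subgroup X)) =
      Nat.card (V.subgroupOf (P' : Subgroup X)) := by
    rw [Nat.card_congr (Subgroup.subgroupOfEquivOfLe hUg).toEquiv,
      Nat.card_congr (Subgroup.subgroupOfEquivOfLe hVP').toEquiv, card_conjMap, h]
  have h2 := eq_of_card_eq_of_isCyclic _ _ h1
  have h3 := Subgroup.subgroupOf_inj.mp h2
  rw [inf_eq_left.mpr hUg, inf_eq_left.mpr hVP'] at h3
  exact ⟨g, h3.symm⟩

theorem conj_of_subtype {T : Subgroup G}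
    (hT : ∀ A' B' : Subgroup T, Nat.card A' = Nat.card B' →
      ∃ t : T, B' = A'.map (MulAut.conj t).toMonoidHom)
    (A B : Subgroup G) (hA : A ≤ T) (hB : B ≤ T) (h : Nat.card A = Nat.card B) :
    ∃ t ∈ T, B = A.map (MulAut.conj t).toMonoidHom := by
  have hcA : Nat.card (A.subgroupOf T) = Nat.card A :=
    Nat.card_congr (Subgroup.subgroupOfEquivOfLe hA).toEquiv
  have hcB : Nat.card (B.subgroupOf T) = Nat.card B :=
    Nat.card_congr (Subgroup.subgroupOfEquivOfLe hB).toEquiv
  obtain ⟨t, ht⟩ := hT (A.subgroupOf T) (B.subgroupOf T) (by rw [hcA, hcB, h])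
  refine ⟨t.1, t.2, ?_⟩
  ext x
  rw [mem_conjMap]
  constructor
  · intro hx
    have h1 : (⟨x, hB hx⟩ : T) ∈ B.subgroupOf T := Subgroup.mem_subgroupOf.mpr hx
    rw [ht, mem_conjMap] at h1
    exact Subgroup.mem_subgroupOf.mp h1
  · intro hx
    have hxT : x ∈ T := by
      have h2 := T.mul_mem (T.mul_mem t.2 (hA hx)) (T.inv_mem t.2)
      have h3 : (t : G) * ((t : G)⁻¹ * x * (t : G)) * (t : G)⁻¹ = x := by group
      rwa [h3] at h2
    have h1 : (⟨x, hxT⟩ : T) ∈ (A.subgroupOf T).map (MulAut.conj t).toMonoidHom := by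
      rw [mem_conjMap]
      exact Subgroup.mem_subgroupOf.mpr hx
    rw [← ht] at h1
    exact Subgroup.mem_subgroupOf.mp h1

theorem sylow_cyclic_quotient [Finite G] (N : Subgroup G) [N.Normal] (q : ℕ) (hq : q.Prime)
    (h : ∀ P : Sylow q G, IsCyclic P) : ∀ P : Sylow q (G ⧸ N), IsCyclic P := by
  haveI := Fact.mk hq
  intro P
  obtain ⟨Q, rfl⟩ := Sylow.mapSurjective_surjective (QuotientGroup.mk'_surjective N) q P
  haveI := h Q
  show IsCyclic ↥((Q : Subgroup G).map (QuotientGroup.mk' N))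
  exact isCyclic_of_surjective ((QuotientGroup.mk' N).subgroupMap (Q : Subgroup G))
    (MonoidHom.subgroupMap_surjective _ _)

theorem exists_normal_elemAb (X : Type*) [Group X] [Finite X] [Nontrivial X]
    [hX : Group.IsSolvable X] :
    ∃ p : ℕ, p.Prime ∧ ∃ N : Subgroup X, N.Normal ∧ N ≠ ⊥ ∧ (∀ x ∈ N, x ^ p = 1) ∧
      ∀ a ∈ N, ∀ b ∈ N, a * b = b * a := by
  classical
  have hex : ∃ n, derivedSeries X n = ⊥ := hX.solvable
  have h0 : Nat.find hex ≠ 0 := by
    intro h0
    have := Nat.find_spec hex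
    rw [h0, derivedSeries_zero] at this
    exact top_ne_bot this
  obtain ⟨k, hk⟩ := Nat.exists_eq_succ_of_ne_zero h0
  have hkne : derivedSeries X k ≠ ⊥ := Nat.find_min hex (by omega)
  have hkbot : ⁅derivedSeries X k, derivedSeries X k⁆ = ⊥ := by
    have := Nat.find_spec hex
    rwa [hk, Nat.succ_eq_add_one, derivedSeries_succ] at this
  haveI := derivedSeries_normal X k
  have hcomm : ∀ a ∈ derivedSeries X k, ∀ b ∈ derivedSeries X k, a * b = b * a := by
    intro a ha b hb
    have h3 := (Subgroup.commutator_eq_bot_iff_le_centralizer.mp hkbot) ha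
    rw [Subgroup.mem_centralizer_iff] at h3
    exact (h3 b hb).symm
  have hcard : Nat.card (derivedSeries X k) ≠ 1 := fun h => hkne (Subgroup.card_eq_one.mp h)
  obtain ⟨p, hp, hpd⟩ := Nat.exists_prime_and_dvd hcard
  haveI : Fact p.Prime := ⟨hp⟩
  obtain ⟨T, hTn, hTle, hTne, hT⟩ :=
    exists_normal_exponent_subgroup (derivedSeries X k) hcomm p hpd
  exact ⟨p, hp, T, hTn, hTne, hT, fun a ha b hb => hcomm a (hTle ha) b (hTle hb)⟩

/-- A complement in `H` to the normal Sylow subgroup `H ⊓ N`. -/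
theorem exists_compl_inf [Finite G] (N : Subgroup G) [N.Normal] (p : ℕ) [Fact p.Prime]
    (hN : IsPGroup p N) (hidx : (N.index).Coprime p) (H : Subgroup G) :
    ∃ H₁ : Subgroup G, H₁ ≤ H ∧ H₁ ⊓ N = ⊥ ∧ (H ⊓ N) ⊔ H₁ = H ∧ (Nat.card H₁).Coprime p ∧
      Nat.card ↥(H ⊓ N) * Nat.card H₁ = Nat.card H := by
  have hN' : IsPGroup p (N.subgroupOf H) := by
    intro g
    obtain ⟨k, hk⟩ := hN ⟨((g : H) : G), g.2⟩
    refine ⟨k, ?_⟩
    have h1 : (((g : H) : G)) ^ p ^ k = 1 := by
      have h2 := congrArg Subtype.val hk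
      simpa using h2
    apply Subtype.ext
    apply Subtype.ext
    simpa using h1
  have hdvd : (N.subgroupOf H).index ∣ N.index := Subgroup.relIndex_dvd_index_of_normal N H
  have hcop : (Nat.card (N.subgroupOf H)).Coprime (N.subgroupOf H).index := by
    obtain ⟨k, hk⟩ := (IsPGroup.iff_card).mp hN'
    rw [hk]
    exact Nat.Coprime.pow_left k ((Nat.Coprime.coprime_dvd_left hdvd hidx).symm)
  obtain ⟨C, hC⟩ := Subgroup.exists_left_complement'_of_coprime hcop
  have hCcard : Nat.card C = N.relIndex H := (hC.index_eq_card).symm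
  refine ⟨C.map H.subtype, ?_, ?_, ?_, ?_, ?_⟩
  · rintro _ ⟨c, -, rfl⟩
    exact c.2
  · rw [eq_bot_iff]
    rintro x ⟨⟨c, hc, rfl⟩, hxN⟩
    have h1 : c ∈ C ⊓ N.subgroupOf H := ⟨hc, Subgroup.mem_subgroupOf.mpr hxN⟩
    rw [IsComplement'.inf_eq_bot hC, Subgroup.mem_bot] at h1
    rw [Subgroup.mem_bot, h1]
    rfl
  · apply le_antisymm
    · refine sup_le inf_le_left ?_
      rintro _ ⟨c, -, rfl⟩
      exact c.2
    · intro h hh
      obtain ⟨c, hc, d, hd, hcd⟩ := IsComplement'.exists_mul hC ⟨h, hh⟩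
      have h1 : h = (c : G) * (d : G) := congrArg Subtype.val hcd
      rw [h1]
      exact Subgroup.mul_mem _ (Subgroup.mem_sup_right ⟨c, hc, rfl⟩)
        (Subgroup.mem_sup_left ⟨d.2, Subgroup.mem_subgroupOf.mp hd⟩)
  · rw [Subgroup.card_map_of_injective H.subtype_injective, hCcard]
    exact Nat.Coprime.coprime_dvd_left hdvd hidx
  · rw [Subgroup.card_map_of_injective H.subtype_injective, hCcard, ← Subgroup.inf_relIndex_left]
    have := Subgroup.relIndex_mul_relIndex ⊥ (H ⊓ N) H bot_le inf_le_left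
    rwa [Subgroup.relIndex_bot_left, Subgroup.relIndex_bot_left] at this

end Basic

end Cfsg.Agent.Lib.Helper22.SO
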