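import Mathlib

set_option autoImplicit false
set_option maxHeartbeats 1000000

namespace Cfsg.Agent.Lib.Helper22.StemAb

/-- Central extension over an abelian two-generator piece: if `σ : Γ →* G` has central kernel,
`a b : G` commute, `a ^ n = 1`, and every element of `S ≤ Γ` maps to some `a ^ i * b ^ j`, then there
is `c` in the kernel with `c ^ n = 1` such that the commutator subgroup of `S` lies in `zpowers c`. -/
theorem ab_comm {Γ G : Type*} [Group Γ] [Group G] (σ : Γ →* G) (hsurj : Function.Surjective σ)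
    (hker : σ.ker ≤ Subgroup.center Γ) (a b : G) (n : ℕ)
    (ha : a ^ n = 1) (hab : a * b = b * a)
    (S : Subgroup Γ) (hS : ∀ s ∈ S, ∃ i j : ℕ, σ s = a ^ i * b ^ j) :
    ∃ c : Γ, c ^ n = 1 ∧ σ c = 1 ∧
      ∀ (z : Γ) (hzS : z ∈ S), (⟨z, hzS⟩ : ↥S) ∈ commutator ↥S → z ∈ Subgroup.zpowers c := by
  obtain ⟨A, hA⟩ := hsurj a
  obtain ⟨B, hB⟩ := hsurj b
  obtain ⟨c, hc⟩ : ∃ c : Γ, c = A * B * A⁻¹ * B⁻¹ := ⟨_, rfl⟩
  have hck : c ∈ σ.ker := by
    rw [MonoidHom.mem_ker, hc]
    simp only [map_mul, map_inv, hA, hB]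
    rw [hab]
    group
  have hcc : c ∈ Subgroup.center Γ := hker hck
  have cen : ∀ k ∈ Subgroup.center Γ, ∀ g : Γ, g * k = k * g :=
    fun k hk g => Subgroup.mem_center_iff.mp hk g
  have hAn : A ^ n ∈ Subgroup.center Γ :=
    hker (by rw [MonoidHom.mem_ker, map_pow, hA, ha])
  have hAB : A * B = c * (B * A) := by rw [hc]; group
  have hpow : ∀ m : ℕ, A ^ m * B = c ^ m * (B * A ^ m) := by
    intro m
    induction m with
    | zero => simp
    | succ m ih =>
      calc A ^ (m + 1) * B = A ^ m * (A * B) := by rw [pow_succ, mul_assoc]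
        _ = A ^ m * (c * (B * A)) := by rw [hAB]
        _ = c * (A ^ m * B) * A := by
          rw [← mul_assoc (A ^ m) c, cen c hcc (A ^ m)]; simp only [mul_assoc]
        _ = c * (c ^ m * (B * A ^ m)) * A := by rw [ih]
        _ = c ^ (m + 1) * (B * A ^ (m + 1)) := by
          rw [pow_succ' c m, pow_succ A m]; simp only [mul_assoc]
  have hcn : c ^ n = 1 := by
    have h1 := hpow n
    have h2 : A ^ n * B = B * A ^ n := (cen _ hAn B).symm
    rw [h2] at h1
    have h3 : 1 * (B * A ^ n) = c ^ n * (B * A ^ n) := by rw [one_mul]; exact h1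
    exact (mul_right_cancel h3).symm
  refine ⟨c, hcn, MonoidHom.mem_ker.mp hck, ?_⟩
  haveI hZn : (Subgroup.zpowers c).Normal := by
    constructor
    intro x hx g
    have hxc : x ∈ Subgroup.center Γ := by
      obtain ⟨k, rfl⟩ := Subgroup.mem_zpowers_iff.mp hx
      exact Subgroup.zpow_mem _ hcc k
    rw [cen x hxc g, mul_inv_cancel_right]
    exact hx
  have key : ∀ s ∈ S, ∀ t ∈ S, s * t * s⁻¹ * t⁻¹ ∈ Subgroup.zpowers c := by
    intro s hs t ht
    obtain ⟨i, j, hsij⟩ := hS s hs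
    obtain ⟨i', j', htij⟩ := hS t ht
    have hk : (A ^ i * B ^ j)⁻¹ * s ∈ Subgroup.center Γ := hker (by
      rw [MonoidHom.mem_ker, map_mul, map_inv, map_mul, map_pow, map_pow, hA, hB, hsij,
        inv_mul_cancel])
    have hk' : (A ^ i' * B ^ j')⁻¹ * t ∈ Subgroup.center Γ := hker (by
      rw [MonoidHom.mem_ker, map_mul, map_inv, map_mul, map_pow, map_pow, hA, hB, htij,
        inv_mul_cancel])
    obtain ⟨π, hπ⟩ : ∃ π : Γ →* Γ ⧸ Subgroup.zpowers c,
        π = QuotientGroup.mk' (Subgroup.zpowers c) := ⟨_, rfl⟩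
    have hπc : π c = 1 := by
      rw [hπ]; exact (QuotientGroup.eq_one_iff c).mpr (Subgroup.mem_zpowers c)
    have hπAB : Commute (π A) (π B) := by
      show π A * π B = π B * π A
      rw [← map_mul, ← map_mul, hAB, map_mul, hπc, one_mul]
    have hπcen : ∀ k ∈ Subgroup.center Γ, ∀ q : Γ ⧸ Subgroup.zpowers c, Commute (π k) q := by
      intro k hk q
      obtain ⟨g, rfl⟩ := QuotientGroup.mk'_surjective (Subgroup.zpowers c) q
      show π k * (QuotientGroup.mk' (Subgroup.zpowers c)) g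
        = (QuotientGroup.mk' (Subgroup.zpowers c)) g * π k
      rw [← hπ, ← map_mul, ← map_mul, cen k hk g]
    have hs' : π s = π A ^ i * π B ^ j * π ((A ^ i * B ^ j)⁻¹ * s) := by
      rw [← map_pow, ← map_pow, ← map_mul, ← map_mul, mul_inv_cancel_left]
    have ht' : π t = π A ^ i' * π B ^ j' * π ((A ^ i' * B ^ j')⁻¹ * t) := by
      rw [← map_pow, ← map_pow, ← map_mul, ← map_mul, mul_inv_cancel_left]
    have e1 : Commute (π A ^ i * π B ^ j) (π A ^ i' * π B ^ j') := by
      apply Commute.mul_left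
      · exact Commute.mul_right (Commute.pow_pow (Commute.refl _) _ _) (Commute.pow_pow hπAB _ _)
      · exact Commute.mul_right (Commute.pow_pow hπAB.symm _ _)
          (Commute.pow_pow (Commute.refl _) _ _)
    have hcomm : Commute (π s) (π t) := by
      rw [hs', ht']
      exact Commute.mul_left (Commute.mul_right e1 (hπcen _ hk' _).symm) (hπcen _ hk _)
    have h1 : π (s * t * s⁻¹ * t⁻¹) = 1 := by
      rw [map_mul, map_mul, map_mul, map_inv, map_inv, hcomm.eq, mul_inv_cancel_right,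
        mul_inv_cancel]
    rw [hπ] at h1
    exact (QuotientGroup.eq_one_iff _).mp h1
  intro z hzS hz
  have hle : commutator ↥S ≤ (Subgroup.zpowers c).comap S.subtype := by
    rw [commutator_def, Subgroup.commutator_le]
    intro g₁ _ g₂ _
    rw [Subgroup.mem_comap]
    have h := key g₁ g₁.2 g₂ g₂.2
    simpa [commutatorElement_def] using h
  exact hle hz

/-- a group all of whose elements are powers of `c`, with `c ^ n = 1`, is a homomorphic image of
`Multiplicative (ZMod n)` -/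
theorem exists_pi_of_zpowers {K : Type*} [Group K] (n : ℕ) (c : K) (hc : c ^ n = 1)
    (hgen : ∀ k : K, k ∈ Subgroup.zpowers c) :
    ∃ π : Multiplicative (ZMod n) →* K, Function.Surjective π := by
  have h0 : (zmultiplesHom (Additive K) (Additive.ofMul c)) (n : ℤ) = 0 := by
    simp only [zmultiplesHom_apply, natCast_zsmul]
    rw [← ofMul_pow, hc]
    rfl
  obtain ⟨g, hg⟩ : ∃ g : ZMod n →+ Additive K,
      g = ZMod.lift n ⟨zmultiplesHom (Additive K) (Additive.ofMul c), h0⟩ := ⟨_, rfl⟩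
  refine ⟨AddMonoidHom.toMultiplicativeLeft g, ?_⟩
  intro k
  obtain ⟨m, rfl⟩ := Subgroup.mem_zpowers_iff.mp (hgen k)
  refine ⟨Multiplicative.ofAdd ((m : ℤ) : ZMod n), ?_⟩
  show Additive.toMul (g ((m : ℤ) : ZMod n)) = c ^ m
  rw [hg, ZMod.lift_coe]
  simp only [zmultiplesHom_apply]
  rfl

end Cfsg.Agent.Lib.Helper22.StemAb
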