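import Mathlib

set_option autoImplicit false
set_option maxHeartbeats 1000000

namespace Cfsg.Agent.Lib.Helper22.StemQuat

/-- if `A`, `B` normalize `N` and their commutator lies in `N`, then any two elements of the form
`A ^ i * B ^ j * k` with `k` central have their commutator in `N` -/
theorem comm_mem_of_normalizer {Γ : Type*} [Group Γ] (N : Subgroup Γ) (A B : Γ)
    (hA : A ∈ Subgroup.normalizer (N : Set Γ)) (hB : B ∈ Subgroup.normalizer (N : Set Γ))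
    (hAB : A * B * A⁻¹ * B⁻¹ ∈ N) (i j i' j' : ℕ) (k k' : Γ)
    (hk : k ∈ Subgroup.center Γ) (hk' : k' ∈ Subgroup.center Γ) :
    (A ^ i * B ^ j * k) * (A ^ i' * B ^ j' * k') * (A ^ i * B ^ j * k)⁻¹
      * (A ^ i' * B ^ j' * k')⁻¹ ∈ N := by
  have hcen : Subgroup.center Γ ≤ Subgroup.normalizer (N : Set Γ) :=
    Subgroup.center_le_normalizer _
  obtain ⟨π, hπ⟩ : ∃ π : ↥(Subgroup.normalizer (N : Set Γ)) →*
      ↥(Subgroup.normalizer (N : Set Γ)) ⧸ N.subgroupOf (Subgroup.normalizer (N : Set Γ)),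
      π = QuotientGroup.mk' (N.subgroupOf (Subgroup.normalizer (N : Set Γ))) := ⟨_, rfl⟩
  obtain ⟨a', ha'⟩ : ∃ a' : ↥(Subgroup.normalizer (N : Set Γ)), (a' : Γ) = A := ⟨⟨A, hA⟩, rfl⟩
  obtain ⟨b', hb'⟩ : ∃ b' : ↥(Subgroup.normalizer (N : Set Γ)), (b' : Γ) = B := ⟨⟨B, hB⟩, rfl⟩
  obtain ⟨κ, hκ⟩ : ∃ κ : ↥(Subgroup.normalizer (N : Set Γ)), (κ : Γ) = k := ⟨⟨k, hcen hk⟩, rfl⟩
  obtain ⟨κ', hκ'⟩ : ∃ κ' : ↥(Subgroup.normalizer (N : Set Γ)), (κ' : Γ) = k' :=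
    ⟨⟨k', hcen hk'⟩, rfl⟩
  have hπAB : Commute (π a') (π b') := by
    show π a' * π b' = π b' * π a'
    have h1 : a' * b' = (a' * b' * a'⁻¹ * b'⁻¹) * (b' * a') := by group
    have h2 : π (a' * b' * a'⁻¹ * b'⁻¹) = 1 := by
      rw [hπ]
      apply (QuotientGroup.eq_one_iff _).mpr
      rw [Subgroup.mem_subgroupOf]
      simp only [Subgroup.coe_mul, Subgroup.coe_inv, ha', hb']
      exact hAB
    rw [← map_mul, ← map_mul, h1, map_mul, h2, one_mul]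
  have hπcen : ∀ (x : ↥(Subgroup.normalizer (N : Set Γ))), (x : Γ) ∈ Subgroup.center Γ →
      ∀ q : ↥(Subgroup.normalizer (N : Set Γ)) ⧸ N.subgroupOf (Subgroup.normalizer (N : Set Γ)),
        Commute (π x) q := by
    intro x hx q
    obtain ⟨g, rfl⟩ := QuotientGroup.mk'_surjective _ q
    show π x * (QuotientGroup.mk' _) g = (QuotientGroup.mk' _) g * π x
    rw [← hπ, ← map_mul, ← map_mul]
    congr 1
    apply Subtype.ext
    show (x : Γ) * (g : Γ) = (g : Γ) * (x : Γ)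
    exact (Subgroup.mem_center_iff.mp hx (g : Γ)).symm
  have e1 : Commute (π a' ^ i * π b' ^ j) (π a' ^ i' * π b' ^ j') := by
    apply Commute.mul_left
    · exact Commute.mul_right (Commute.pow_pow (Commute.refl _) _ _) (Commute.pow_pow hπAB _ _)
    · exact Commute.mul_right (Commute.pow_pow hπAB.symm _ _)
        (Commute.pow_pow (Commute.refl _) _ _)
  have hcomm : Commute (π (a' ^ i * b' ^ j * κ)) (π (a' ^ i' * b' ^ j' * κ')) := by
    rw [map_mul, map_mul, map_pow, map_pow, map_mul, map_mul, map_pow, map_pow]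
    exact Commute.mul_left (Commute.mul_right e1 (hπcen κ' (hκ' ▸ hk') _).symm)
      (hπcen κ (hκ ▸ hk) _)
  have h1 : π ((a' ^ i * b' ^ j * κ) * (a' ^ i' * b' ^ j' * κ') * (a' ^ i * b' ^ j * κ)⁻¹
      * (a' ^ i' * b' ^ j' * κ')⁻¹) = 1 := by
    rw [map_mul, map_mul, map_mul, map_inv, map_inv, hcomm.eq, mul_inv_cancel_right,
      mul_inv_cancel]
  rw [hπ] at h1
  have h2 := (QuotientGroup.eq_one_iff _).mp h1
  rw [Subgroup.mem_subgroupOf] at h2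
  simp only [Subgroup.coe_mul, Subgroup.coe_inv, Subgroup.coe_pow, ha', hb', hκ, hκ'] at h2
  exact h2

theorem mem_normalizer_zpowers {Γ : Type*} [Group Γ] (c g : Γ)
    (h1 : g * c * g⁻¹ ∈ Subgroup.zpowers c) (h2 : g⁻¹ * c * g ∈ Subgroup.zpowers c) :
    g ∈ Subgroup.normalizer ((Subgroup.zpowers c : Subgroup Γ) : Set Γ) := by
  rw [Subgroup.mem_normalizer_iff]
  intro h
  constructor
  · intro hh
    obtain ⟨m, rfl⟩ := Subgroup.mem_zpowers_iff.mp hh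
    have e : g * c ^ m * g⁻¹ = (g * c * g⁻¹) ^ m := by rw [conj_zpow]
    rw [e]
    exact Subgroup.zpow_mem _ h1 m
  · intro hh
    obtain ⟨m, hm⟩ := Subgroup.mem_zpowers_iff.mp hh
    have e : h = (g⁻¹ * c * g) ^ m := by
      have e' : (g⁻¹ * c * g) ^ m = g⁻¹ * c ^ m * g := by
        have e'' := conj_zpow (a := g⁻¹) (b := c) (i := m)
        rw [inv_inv] at e''
        exact e''
      rw [e', hm]
      group
    rw [e]
    exact Subgroup.zpow_mem _ h2 m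

/-- Central extension over a generalized quaternion piece `⟨a, b | b² = a⁴, b a b⁻¹ = a⁻¹⟩`:
shape of `dih_comm`. -/
theorem quat_comm {Γ G : Type*} [Group Γ] [Group G] (σ : Γ →* G) (hsurj : Function.Surjective σ)
    (hker : σ.ker ≤ Subgroup.center Γ) (a b : G)
    (hb : b * b = a ^ 4) (hba : b * a * b⁻¹ = a⁻¹)
    (S : Subgroup Γ) (hS : ∀ s ∈ S, ∃ i : ℕ, σ s = a ^ i ∨ σ s = a ^ i * b) :
    ∃ c : Γ, c ^ (4 : ℤ) = 1 ∧ σ c = a ^ (-2 : ℤ) ∧
      ∀ (z : Γ) (hzS : z ∈ S), (⟨z, hzS⟩ : ↥S) ∈ commutator ↥S → z ∈ Subgroup.zpowers c := by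
  obtain ⟨A, hA⟩ := hsurj a
  obtain ⟨B, hB⟩ := hsurj b
  have cen : ∀ k ∈ Subgroup.center Γ, ∀ g : Γ, g * k = k * g :=
    fun k hk g => Subgroup.mem_center_iff.mp hk g
  obtain ⟨z1, hz1⟩ : ∃ z1 : Γ, z1 = A * (B * A * B⁻¹) := ⟨_, rfl⟩
  have hz1k : z1 ∈ σ.ker := by
    rw [MonoidHom.mem_ker, hz1, map_mul, map_mul, map_mul, map_inv, hA, hB, hba, mul_inv_cancel]
  have hz1c : z1 ∈ Subgroup.center Γ := hker hz1k
  have hr : B * A * B⁻¹ = A⁻¹ * z1 := by rw [hz1, inv_mul_cancel_left]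
  have hwc : (A ^ 4)⁻¹ * (B * B) ∈ Subgroup.center Γ := hker (by
    rw [MonoidHom.mem_ker, map_mul, map_inv, map_pow, map_mul, hA, hB, hb, inv_mul_cancel])
  have hAz : Commute A z1 := cen z1 hz1c A
  obtain ⟨c, hc⟩ : ∃ c : Γ, c = A⁻¹ * z1 * A⁻¹ := ⟨_, rfl⟩
  have hAc : Commute A c := by
    rw [hc]
    exact ((Commute.refl A).inv_right.mul_right hAz).mul_right (Commute.refl A).inv_right
  have hβc : B * c * B⁻¹ = c⁻¹ := by
    have e1 : B * c * B⁻¹ = (B * A * B⁻¹)⁻¹ * (B * z1 * B⁻¹) * (B * A * B⁻¹)⁻¹ := by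
      rw [hc]; group
    have e2 : B * z1 * B⁻¹ = z1 := by rw [cen z1 hz1c B, mul_inv_cancel_right]
    rw [e1, hr, e2, hc]
    have e3 : (A⁻¹ * z1)⁻¹ * z1 = A := by
      rw [mul_inv_rev, inv_inv, mul_assoc, hAz.eq, inv_mul_cancel_left]
    rw [e3]
    group
  have hβc' : B⁻¹ * c * B = c⁻¹ := by
    have e : c = B⁻¹ * c⁻¹ * B := by rw [← hβc]; group
    calc B⁻¹ * c * B = (B⁻¹ * c⁻¹ * B)⁻¹ := by group
      _ = c⁻¹ := by rw [← e]
  have hBA4 : B * A ^ 4 * B⁻¹ = A ^ 4 := by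
    have h := cen _ hwc B
    have h' : B * (A ^ 4)⁻¹ = (A ^ 4)⁻¹ * B := by
      have h2 : B * (A ^ 4)⁻¹ * (B * B) = (A ^ 4)⁻¹ * B * (B * B) := by
        rw [mul_assoc, h]; group
      exact mul_right_cancel h2
    calc B * A ^ 4 * B⁻¹ = A ^ 4 * ((A ^ 4)⁻¹ * B) * A ^ 4 * B⁻¹ := by group
      _ = A ^ 4 * (B * (A ^ 4)⁻¹) * A ^ 4 * B⁻¹ := by rw [h']
      _ = A ^ 4 := by group
  have hpow4 : (A⁻¹ * z1) ^ 4 = A ^ 4 := by
    rw [← hr, conj_pow, hBA4]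
  have hc4 : c ^ 4 = 1 := by
    have hcm : Commute (A⁻¹ * z1) A⁻¹ :=
      Commute.mul_left (Commute.refl _) hAz.symm.inv_right
    rw [hc, hcm.mul_pow, hpow4, inv_pow, mul_inv_cancel]
  have hc4' : c ^ (4 : ℤ) = 1 := by
    rw [show (4 : ℤ) = ((4 : ℕ) : ℤ) from rfl, zpow_natCast]; exact hc4
  have hσc : σ c = a ^ (-2 : ℤ) := by
    rw [hc, map_mul, map_mul, map_inv, hA, MonoidHom.mem_ker.mp hz1k, mul_one, zpow_neg,
      zpow_two, mul_inv_rev]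
  refine ⟨c, hc4', hσc, ?_⟩
  have hcmem : c ∈ Subgroup.zpowers c := Subgroup.mem_zpowers c
  have hcinv : c⁻¹ ∈ Subgroup.zpowers c := Subgroup.inv_mem _ hcmem
  have hAN : A ∈ Subgroup.normalizer ((Subgroup.zpowers c : Subgroup Γ) : Set Γ) := by
    apply mem_normalizer_zpowers
    · rw [hAc.eq, mul_inv_cancel_right]; exact hcmem
    · rw [mul_assoc, ← hAc.eq, inv_mul_cancel_left]; exact hcmem
  have hBN : B ∈ Subgroup.normalizer ((Subgroup.zpowers c : Subgroup Γ) : Set Γ) := by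
    apply mem_normalizer_zpowers
    · rw [hβc]; exact hcinv
    · rw [hβc']; exact hcinv
  have hABN : A * B * A⁻¹ * B⁻¹ ∈ Subgroup.zpowers c := by
    have e : A * B * A⁻¹ * B⁻¹ = c⁻¹ := by
      calc A * B * A⁻¹ * B⁻¹ = A * (B * A * B⁻¹)⁻¹ := by group
        _ = A * (A⁻¹ * z1)⁻¹ := by rw [hr]
        _ = c⁻¹ := by rw [hc]; group
    rw [e]; exact hcinv
  have hform : ∀ s ∈ S, ∃ (i j : ℕ) (k : Γ), k ∈ Subgroup.center Γ ∧ s = A ^ i * B ^ j * k := by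
    intro s hs
    obtain ⟨i, h | h⟩ := hS s hs
    · refine ⟨i, 0, (A ^ i)⁻¹ * s, hker ?_, ?_⟩
      · rw [MonoidHom.mem_ker, map_mul, map_inv, map_pow, hA, h, inv_mul_cancel]
      · rw [pow_zero, mul_one, mul_inv_cancel_left]
    · refine ⟨i, 1, (A ^ i * B)⁻¹ * s, hker ?_, ?_⟩
      · rw [MonoidHom.mem_ker, map_mul, map_inv, map_mul, map_pow, hA, hB, h, inv_mul_cancel]
      · rw [pow_one, mul_inv_cancel_left]
  have key : ∀ s ∈ S, ∀ t ∈ S, s * t * s⁻¹ * t⁻¹ ∈ Subgroup.zpowers c := by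
    intro s hs t ht
    obtain ⟨i, j, k, hk, rfl⟩ := hform s hs
    obtain ⟨i', j', k', hk', rfl⟩ := hform t ht
    exact comm_mem_of_normalizer _ A B hAN hBN hABN i j i' j' k k' hk hk'
  intro z hzS hz
  have hle : commutator ↥S ≤ (Subgroup.zpowers c).comap S.subtype := by
    rw [commutator_def, Subgroup.commutator_le]
    intro g₁ _ g₂ _
    rw [Subgroup.mem_comap]
    have h := key g₁ g₁.2 g₂ g₂.2
    simpa [commutatorElement_def] using h
  exact hle hz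

/-- consequence: if moreover `a ^ 4 ≠ 1`, then a central kernel element of `S` lying in the
commutator subgroup of `S` is trivial (the multiplier of a generalized quaternion group vanishes). -/
theorem quat_trivial {Γ G : Type*} [Group Γ] [Group G] (σ : Γ →* G) (hsurj : Function.Surjective σ)
    (hker : σ.ker ≤ Subgroup.center Γ) (a b : G)
    (hb : b * b = a ^ 4) (hba : b * a * b⁻¹ = a⁻¹) (ha4 : a ^ 4 ≠ 1)
    (S : Subgroup Γ) (hS : ∀ s ∈ S, ∃ i : ℕ, σ s = a ^ i ∨ σ s = a ^ i * b)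
    (z : Γ) (hzS : z ∈ S) (hzk : σ z = 1) (hz : (⟨z, hzS⟩ : ↥S) ∈ commutator ↥S) : z = 1 := by
  obtain ⟨c, hc4, hσc, hcz⟩ := quat_comm σ hsurj hker a b hb hba S hS
  obtain ⟨m, rfl⟩ := Subgroup.mem_zpowers_iff.mp (hcz z hzS hz)
  -- reduce `m` modulo 4
  have hm : c ^ m = c ^ (m % 4) := by
    conv_lhs => rw [← Int.emod_add_mul_ediv m 4]
    rw [zpow_add, zpow_mul, hc4, one_zpow, mul_one]
  have h0 : 0 ≤ m % 4 := Int.emod_nonneg m (by norm_num)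
  have h4 : m % 4 < 4 := Int.emod_lt_of_pos m (by norm_num)
  rw [hm] at hzk ⊢
  rw [map_zpow, hσc] at hzk
  have ha8 : a ^ (8 : ℤ) ≠ 1 ∨ a ^ (8 : ℤ) = 1 := (em _).symm
  have ha4' : a ^ (4 : ℤ) ≠ 1 := by
    rw [show (4 : ℤ) = ((4 : ℕ) : ℤ) from rfl, zpow_natCast]; exact ha4
  have ha2 : a ^ (2 : ℤ) ≠ 1 := by
    intro h
    apply ha4'
    rw [show (4 : ℤ) = 2 * 2 from rfl, zpow_mul, h, one_zpow]
  have ha6 : a ^ (6 : ℤ) ≠ 1 := by
    intro h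
    -- a^8 = 1 follows from b-conjugation: b a^4 b⁻¹ = a^4 and = a^(-4)
    have h8 : a ^ (8 : ℤ) = 1 := by
      have e1 : b * a ^ 4 * b⁻¹ = a ^ 4 := by
        rw [← hb]; group
      have e2 : b * a ^ 4 * b⁻¹ = (a⁻¹) ^ 4 := by
        rw [← hba, conj_pow]
      have e3 : a ^ 4 = (a⁻¹) ^ 4 := e1.symm.trans e2
      have e4 : a ^ 4 * a ^ 4 = 1 := by
        nth_rewrite 1 [e3]
        rw [inv_pow, inv_mul_cancel]
      rw [show (8 : ℤ) = ((4 + 4 : ℕ) : ℤ) from rfl, zpow_natCast, pow_add]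
      exact e4
    apply ha2
    have : a ^ (2 : ℤ) = a ^ (8 : ℤ) * (a ^ (6 : ℤ))⁻¹ := by
      rw [← zpow_neg, ← zpow_add]; norm_num
    rw [this, h8, h, inv_one, mul_one]
  have hcases : m % 4 = 0 ∨ m % 4 = 1 ∨ m % 4 = 2 ∨ m % 4 = 3 := by omega
  rcases hcases with h | h | h | h
  · rw [h, zpow_zero]
  · exfalso
    rw [h, zpow_one] at hzk
    apply ha2
    have : a ^ (2 : ℤ) = (a ^ (-2 : ℤ))⁻¹ := by rw [zpow_neg, inv_inv]
    rw [this, hzk, inv_one]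
  · exfalso
    rw [h, ← zpow_mul] at hzk
    apply ha4'
    have : a ^ (4 : ℤ) = (a ^ (-2 * 2 : ℤ))⁻¹ := by rw [← zpow_neg]; norm_num
    rw [this, hzk, inv_one]
  · exfalso
    rw [h, ← zpow_mul] at hzk
    apply ha6
    have : a ^ (6 : ℤ) = (a ^ (-2 * 3 : ℤ))⁻¹ := by rw [← zpow_neg]; norm_num
    rw [this, hzk, inv_one]

end Cfsg.Agent.Lib.Helper22.StemQuat
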