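import Mathlib

set_option autoImplicit false
set_option maxHeartbeats 1000000

namespace Cfsg.Agent.Lib.Helper22.SylSq

/-- Sylow transfer for "squares lie in the commutator subgroup": if `K ≤ φ.range` has the order of a
Sylow `2`-subgroup of `G` and squares of `K` lie in `⁅K, K⁆`, then every Sylow `2`-subgroup `P` of
`G` has its squares in its commutator subgroup. -/
theorem sylow_sq_of_sub {G H : Type*} [Group G] [Group H] [Finite G] (φ : G →* H)
    (hφ : Function.Injective φ) (K : Subgroup H) (hK : K ≤ φ.range)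
    (hcard : Nat.card K = 2 ^ (Nat.card G).factorization 2)
    (hsq : ∀ x ∈ K, x ^ 2 ∈ ⁅K, K⁆) (P : Sylow 2 G) :
    ∀ x : (P : Subgroup G), x ^ 2 ∈ commutator (P : Subgroup G) := by
  haveI : Fact (Nat.Prime 2) := ⟨Nat.prime_two⟩
  obtain ⟨K₀, hK₀⟩ : ∃ K₀ : Subgroup G, K₀ = K.comap φ := ⟨_, rfl⟩
  have hmap : K₀.map φ = K := by rw [hK₀]; exact Subgroup.map_comap_eq_self hK
  have hcard₀ : Nat.card K₀ = 2 ^ (Nat.card G).factorization 2 := by
    rw [← hcard, ← hmap, Subgroup.card_map_of_injective hφ]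
  have hsq₀ : ∀ y ∈ K₀, y ^ 2 ∈ ⁅K₀, K₀⁆ := by
    intro y hy
    have h1 : φ y ∈ K := by rw [hK₀] at hy; exact hy
    have h2 := hsq _ h1
    rw [← hmap, ← Subgroup.map_commutator, ← map_pow] at h2
    exact (Subgroup.mem_map_iff_mem hφ).mp h2
  obtain ⟨g, hg⟩ := MulAction.exists_smul_eq G (Sylow.ofCard K₀ hcard₀) P
  have hPK : ∀ y ∈ K₀, g * y * g⁻¹ ∈ (P : Subgroup G) := by
    intro y hy
    rw [← hg, Sylow.coe_subgroup_smul, Sylow.coe_ofCard]
    have h2 := Subgroup.smul_mem_pointwise_smul y (MulAut.conj g) K₀ hy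
    simpa [MulAut.smul_def] using h2
  have hKP : ∀ x ∈ (P : Subgroup G), g⁻¹ * x * g ∈ K₀ := by
    intro x hx
    rw [← hg, Sylow.coe_subgroup_smul, Sylow.coe_ofCard,
      Subgroup.mem_pointwise_smul_iff_inv_smul_mem] at hx
    simpa [MulAut.smul_def] using hx
  have hcomm : ∀ w ∈ ⁅K₀, K₀⁆, g * w * g⁻¹ ∈ ⁅(P : Subgroup G), (P : Subgroup G)⁆ := by
    have hle : ⁅K₀, K₀⁆ ≤
        (⁅(P : Subgroup G), (P : Subgroup G)⁆).comap (MulAut.conj g).toMonoidHom := by
      rw [Subgroup.commutator_le]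
      intro a ha b hb
      rw [Subgroup.mem_comap, map_commutatorElement]
      exact Subgroup.commutator_mem_commutator (by simpa using hPK a ha) (by simpa using hPK b hb)
    intro w hw
    have h := hle hw
    simpa using h
  intro x
  have h1 := hsq₀ _ (hKP x x.2)
  have h2 := hcomm _ h1
  have h3 : g * (g⁻¹ * (x : G) * g) ^ 2 * g⁻¹ = (x : G) ^ 2 := by
    rw [pow_two, pow_two]; group
  rw [h3, ← Subgroup.map_subtype_commutator] at h2
  obtain ⟨z, hz, hzx⟩ := Subgroup.mem_map.mp h2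
  have hzx' : z = x ^ 2 := Subtype.ext (by rw [Subgroup.coe_pow]; exact hzx)
  rw [← hzx']
  exact hz

end Cfsg.Agent.Lib.Helper22.SylSq
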