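import Mathlib

/-!
Helper lemmas (helper22): Bezout membership, Sylow generation, elementwise TI condition,
conjugation action on cyclic subgroups.
-/

namespace Cfsg.Agent.Lib.Helper22

open scoped Pointwise

/-- If coprime powers of `g` lie in a subgroup, so does `g`. -/
theorem mem_of_coprime_pow_mem {G : Type*} [Group G] (C : Subgroup G) (g : G) (a b : ℕ)
    (hab : Nat.Coprime a b) (ha : g ^ a ∈ C) (hb : g ^ b ∈ C) : g ∈ C := by
  have h := Nat.gcd_eq_gcd_ab a b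
  have hab' : Nat.gcd a b = 1 := hab
  rw [hab'] at h
  have : g = (g ^ a) ^ (Nat.gcdA a b) * (g ^ b) ^ (Nat.gcdB a b) := by
    rw [← zpow_natCast, ← zpow_natCast, ← zpow_mul, ← zpow_mul, ← zpow_add, ← h]
    simp
  rw [this]
  exact C.mul_mem (C.zpow_mem ha _) (C.zpow_mem hb _)

/-- If every prime has a Sylow subgroup inside `T`, then `T = ⊤`. -/
theorem eq_top_of_sylow_le {G : Type*} [Group G] [Finite G] (T : Subgroup G)
    (h : ∀ (r : ℕ) [Fact r.Prime], ∃ R : Sylow r G, (R : Subgroup G) ≤ T) : T = ⊤ := by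
  rw [← Subgroup.index_eq_one]
  by_contra hne
  obtain ⟨r, hr, hrd⟩ := Nat.exists_prime_and_dvd hne
  haveI : Fact r.Prime := ⟨hr⟩
  obtain ⟨R, hR⟩ := h r
  exact R.not_dvd_index (hrd.trans (Subgroup.index_dvd_of_le hR))

/-- Elementwise form of the trivial-intersection condition. -/
theorem ti_iff_elementwise {G : Type*} [Group G] (P : Subgroup G) :
    (∀ g : G, g ∉ Subgroup.normalizer (P : Set G) → P ⊓ (MulAut.conj g • P) = ⊥) ↔
    (∀ g a : G, a ∈ P → a ≠ 1 → g * a * g⁻¹ ∈ P → g ∈ Subgroup.normalizer (P : Set G)) := by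
  constructor
  · intro h g a ha ha1 hga
    by_contra hg
    have h1 := h g hg
    have hmem : g * a * g⁻¹ ∈ P ⊓ (MulAut.conj g • P) :=
      Subgroup.mem_inf.mpr ⟨hga, (Subgroup.mem_smul_pointwise_iff_exists _ _ _).mpr ⟨a, ha, rfl⟩⟩
    rw [h1, Subgroup.mem_bot] at hmem
    apply ha1
    have : a = g⁻¹ * (g * a * g⁻¹) * g := by group
    rw [this, hmem]
    group
  · intro h g hg
    rw [Subgroup.eq_bot_iff_forall]
    intro b hb0
    obtain ⟨hb1, hb2⟩ := Subgroup.mem_inf.mp hb0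
    by_contra hb
    apply hg
    rw [Subgroup.mem_smul_pointwise_iff_exists] at hb2
    obtain ⟨a, ha, rfl⟩ := hb2
    refine h g a ha ?_ hb1
    rintro rfl
    apply hb
    simp

/-- Membership in a conjugate subgroup. -/
theorem mem_conj_smul_iff {G : Type*} [Group G] (P : Subgroup G) (h b : G) :
    b ∈ MulAut.conj h • P ↔ h⁻¹ * b * h ∈ P := by
  rw [Subgroup.mem_pointwise_smul_iff_inv_smul_mem]
  have : (MulAut.conj h)⁻¹ • b = h⁻¹ * b * h := by
    rw [← map_inv]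
    show MulAut.conj h⁻¹ b = _
    rw [MulAut.conj_apply, inv_inv]
  rw [this]

/-- The elementwise TI condition passes to conjugates. -/
theorem ti_elementwise_conj {G : Type*} [Group G] (P : Subgroup G) (h : G)
    (hE : ∀ g a : G, a ∈ P → a ≠ 1 → g * a * g⁻¹ ∈ P → g ∈ Subgroup.normalizer (P : Set G)) :
    ∀ g a : G, a ∈ MulAut.conj h • P → a ≠ 1 → g * a * g⁻¹ ∈ MulAut.conj h • P →
      g ∈ Subgroup.normalizer ((MulAut.conj h • P : Subgroup G) : Set G) := by
  intro g a ha ha1 hga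
  rw [mem_conj_smul_iff] at ha hga
  have h1 : (h⁻¹ * g * h) * (h⁻¹ * a * h) * (h⁻¹ * g * h)⁻¹ ∈ P := by
    have : (h⁻¹ * g * h) * (h⁻¹ * a * h) * (h⁻¹ * g * h)⁻¹ = h⁻¹ * (g * a * g⁻¹) * h := by group
    rw [this]
    exact hga
  have h2 : h⁻¹ * a * h ≠ 1 := by
    intro h0
    apply ha1
    have : a = h * (h⁻¹ * a * h) * h⁻¹ := by group
    rw [this, h0]
    group
  have h3 := hE _ _ ha h2 h1
  rw [Subgroup.mem_normalizer_iff] at h3 ⊢
  intro b
  rw [mem_conj_smul_iff, mem_conj_smul_iff]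
  have := h3 (h⁻¹ * b * h)
  have e : h⁻¹ * g * h * (h⁻¹ * b * h) * (h⁻¹ * g * h)⁻¹ = h⁻¹ * (g * b * g⁻¹) * h := by group
  rw [e] at this
  exact this

/-- Iterated conjugation on an element that is sent to a power of itself. -/
theorem conj_pow_eq {G : Type*} [Group G] (h y : G) (k : ℕ) (hk : h * y * h⁻¹ = y ^ k) (i : ℕ) :
    h ^ i * y * (h ^ i)⁻¹ = y ^ (k ^ i) := by
  induction i with
  | zero => simp
  | succ i ih =>
    calc h ^ (i + 1) * y * (h ^ (i + 1))⁻¹ = h ^ i * (h * y * h⁻¹) * (h ^ i)⁻¹ := by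
          rw [pow_succ]; group
      _ = h ^ i * y ^ k * (h ^ i)⁻¹ := by rw [hk]
      _ = (h ^ i * y * (h ^ i)⁻¹) ^ k := by rw [conj_pow]
      _ = y ^ (k ^ (i + 1)) := by rw [ih, ← pow_mul, ← pow_succ]

/-- If `h` conjugates `y` (of order dividing `p ^ n`) to `y ^ k` with `k ≡ 1 mod p`, then
`h ^ (p ^ n)` commutes with `y`. -/
theorem commute_pow_prime_pow {G : Type*} [Group G] (p n : ℕ) (h y : G) (k : ℕ)
    (hy : y ^ (p ^ n) = 1) (hk : h * y * h⁻¹ = y ^ k) (hkp : (p : ℤ) ∣ (k : ℤ) - 1) :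
    Commute (h ^ (p ^ n)) y := by
  have h1 := conj_pow_eq h y k hk (p ^ n)
  have hd : ((p ^ n : ℕ) : ℤ) ∣ ((k ^ (p ^ n) : ℕ) : ℤ) - 1 := by
    have := dvd_sub_pow_of_dvd_sub hkp n
    rw [one_pow] at this
    push_cast
    exact (Dvd.intro _ (pow_succ (p : ℤ) n).symm).trans this
  obtain ⟨c, hc⟩ := hd
  have h2 : y ^ (k ^ (p ^ n)) = y := by
    rw [← zpow_natCast, show ((k ^ (p ^ n) : ℕ) : ℤ) = 1 + ((p ^ n : ℕ) : ℤ) * c by linarith,
      zpow_add, zpow_one, zpow_mul, zpow_natCast, hy, one_zpow, mul_one]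
  rw [h2] at h1
  show h ^ (p ^ n) * y = y * h ^ (p ^ n)
  calc h ^ (p ^ n) * y = (h ^ (p ^ n) * y * (h ^ (p ^ n))⁻¹) * h ^ (p ^ n) := by group
    _ = y * h ^ (p ^ n) := by rw [h1]

/-- A `p`-element normalizing a Sylow `p`-subgroup lies in it. -/
theorem mem_sylow_of_normalizes {G : Type*} [Group G] {p : ℕ} [Fact p.Prime] (P : Sylow p G)
    (u : G) (e : ℕ) (hu : orderOf u = p ^ e)
    (hn : u ∈ Subgroup.normalizer ((P : Subgroup G) : Set G)) : u ∈ (P : Subgroup G) := by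
  have hz : IsPGroup p (Subgroup.zpowers u) :=
    IsPGroup.of_card (n := e) (by rw [Nat.card_zpowers, hu])
  have hle : Subgroup.zpowers u ≤ Subgroup.normalizer ((P : Subgroup G) : Set G) := by
    rw [Subgroup.zpowers_le]
    exact hn
  have h1 : IsPGroup p (Subgroup.zpowers u ⊔ (P : Subgroup G) : Subgroup G) :=
    IsPGroup.to_sup_of_normal_right' hz P.isPGroup' hle
  have h2 := P.is_maximal' h1 le_sup_right
  have : u ∈ Subgroup.zpowers u ⊔ (P : Subgroup G) :=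
    (le_sup_left : Subgroup.zpowers u ≤ _) (Subgroup.mem_zpowers u)
  rw [h2] at this
  exact this

end Cfsg.Agent.Lib.Helper22
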